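/-
The five singular indices of a frame of order sixteen of minus type.
-/
import Cfsg.Agent.Lib.Classical.Frame.Bil.Maximal

set_option autoImplicit false
set_option linter.unusedSectionVars false

namespace Cfsg.Agent.Classical.SpFourOdd

open Module Matrix Cfsg.Geo
open Cfsg.Agent.Classical.Frame Cfsg.Agent.Classical.Frame.Bil

universe u

variable {ι : Type} [Fintype ι] [DecidableEq ι] {F : Type u} [Field F] [Fintype F]
variable {β : Bil F (ι → F)} {R : Subgroup (GL ι F)}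

/-- The frame of a group of order thirty-two of minus type. -/
theorem exists_data_minus [Nonempty ι] (h2 : (2 : F) ≠ 0) (hR : IsSymplecticTypeGroup 2 R)
    (hirr : ActsAbsolutelyIrreducibly (matrixSet R)) (hRD : R ≤ isoGL β) (hι : Fintype.card ι = 4)
    (hcard : Nat.card R = 32) (hZ : Nat.card (Subgroup.center R) = 2) (hminus : IsOfMinusType 2 R) :
    ∃ (A : Type u) (_ : AddCommGroup A) (_ : Finite A) (Φ : Data F (ι → F) A) (r : A → R),
      (∀ a, Φ.u a = toV ι F (r a : GL ι F)) ∧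
      (∀ g ∈ R, ∃ (a : A) (c : F), ∀ v, toV ι F g v = c • Φ.u a v) ∧
      scalarGL ι F (-1) ∈ R ∧ β.Setup Φ ∧ Nat.card A = 16 ∧ NoSing Φ 2 := by
  classical
  have hexp : ∀ x : R, x ^ 4 = 1 := fun x => by
    have := Monoid.exponent_dvd_iff_forall_pow_eq_one.mp (dvd_of_eq hR.exponent_eq) x
    simpa using this
  have hcomm := symplecticTypeGroup_comm hR hirr
  haveI : Nontrivial (Subgroup.center R) := Finite.one_lt_card_iff_nontrivial.mp (by omega)
  obtain ⟨z, hz1⟩ := exists_ne (1 : Subgroup.center R)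
  obtain ⟨c, hc⟩ := mem_scalars_of_absIrr hirr (g := ((z : R) : GL ι F))
    fun w hw => (congrArg Subtype.val (Subgroup.mem_center_iff.mp z.2 ⟨w, hw⟩)).symm
  have hc' : scalarGL ι F c = ((z : R) : GL ι F) := hc
  have hz2 : z * z = 1 := by
    have := pow_card_eq_one' (x := z)
    rw [hZ, pow_two] at this
    exact this
  have hcc : c * c = 1 := scalarGL_injective (ι := ι) (by
    rw [map_mul, map_one, hc']
    exact congrArg (fun y : Subgroup.center R => ((y : R) : GL ι F)) hz2)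
  have hcm : c = -1 := by
    rcases mul_self_eq_one_iff.mp (congrArg Units.val hcc) with e | e
    · exfalso
      refine hz1 (Subtype.ext (Subtype.ext ?_))
      rw [← hc', show c = 1 from Units.ext e, map_one]; rfl
    · exact Units.ext (by simpa using e)
  have hm1 : scalarGL ι F (-1) ∈ R := by rw [← hcm, hc']; exact (z : R).2
  have hsq := (LocalEven.SymConj.sq_small (T := R) ⟨hR.pGroup, hR.cyclic_of_characteristic⟩ hexp
    (ζ := ⟨_, hm1⟩) (fun q => Subtype.ext (scalars_commute (scalarGL_mem _) (q : GL ι F)).symm)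
    (Subtype.ext (by
      show scalarGL ι F (-1) * scalarGL ι F (-1) = 1
      rw [← map_mul, show (-1 : Fˣ) * -1 = 1 from Units.ext (by simp), map_one]))
    (fun e => by
      have e' : scalarGL ι F (-1) = scalarGL ι F 1 := (congrArg Subtype.val e).trans (map_one _).symm
      have := congrArg Units.val (scalarGL_injective (ι := ι) e')
      rw [Units.val_neg, Units.val_one] at this
      exact h2 (by linear_combination -this))).1
  obtain ⟨A, i1, i2, Φ, r, heq, hcov⟩ := exists_data_of h2 hirr hcomm (fun g hg => by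
    rcases hsq ⟨g, hg⟩ with e | e
    · refine ⟨1, Or.inl rfl, fun v => ?_⟩
      rw [show g * g = 1 from congrArg Subtype.val e, map_one, one_smul]; rfl
    · refine ⟨-1, Or.inr rfl, fun v => ?_⟩
      rw [show g * g = scalarGL ι F (-1) from congrArg Subtype.val e, scalarGL_apply]; simp)
  have hA : Nat.card A = 2 ^ 4 := by
    rw [← Φ.dim, Module.finrank_fintype_fun_eq_card, hι]; norm_num
  have hS : β.Setup Φ := ⟨fun a => by rw [heq]; exact hRD (r a).2⟩
  refine ⟨A, i1, i2, Φ, r, heq, hcov, hm1, hS, hA.trans (by norm_num), fun T hT => ?_⟩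
  -- the preimage of a singular subgroup is elementary abelian
  let P : Subgroup R :=
    { carrier := {g | ∃ a ∈ T, ∃ c : F, (c = 1 ∨ c = -1) ∧ ∀ v, toV ι F (g : GL ι F) v = c • Φ.u a v}
      one_mem' := by
        obtain ⟨u0, hu00, hu0⟩ := Φ.u_zero
        have hu : u0 = 1 ∨ u0 = -1 := sq_of_isom Φ.exists_ne (hS.isom 0) (h := 1) (fun v w => rfl)
          fun v => hu0 v
        refine ⟨0, T.zero_mem, u0, hu, fun v => ?_⟩
        rw [hu0, smul_smul, show u0 * u0 = 1 by rcases hu with h | h <;> simp [h], one_smul, OneMemClass.coe_one,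
          map_one]
        rfl
      mul_mem' := by
        rintro g g' ⟨a, ha, c, hc, hg⟩ ⟨a', ha', c', hc', hg'⟩
        obtain ⟨m, hm⟩ := Φ.mul a a'
        refine ⟨a + a', T.add_mem ha ha', c * c' * m, ?_, fun v => ?_⟩
        · rcases hc with rfl | rfl <;> rcases hc' with rfl | rfl <;> rcases mul_const hS hm with rfl | rfl <;> simp
        · rw [Subgroup.coe_mul, map_mul, LinearEquiv.mul_apply, hg', map_smul, hg, hm, smul_smul, smul_smul]
          ring_nf
      inv_mem' := by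
        rintro g ⟨a, ha, c, hc, hg⟩
        refine ⟨a, ha, c, hc, fun v => ?_⟩
        have e : g * g = 1 := Subtype.ext (toV_injective (LinearEquiv.ext fun v => by
          rw [Subgroup.coe_mul, map_mul, LinearEquiv.mul_apply, hg, hg, map_smul, sq_eq hS, hT a ha, smul_smul,
            smul_smul, OneMemClass.coe_one, map_one]
          rcases hc with rfl | rfl <;> simp))
        rw [inv_eq_of_mul_eq_one_right e, hg] }
  have hP2 : ∀ g ∈ P, g * g = 1 := by
    rintro g ⟨a, ha, c, hc, hg⟩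
    exact Subtype.ext (toV_injective (LinearEquiv.ext fun v => by
      rw [Subgroup.coe_mul, map_mul, LinearEquiv.mul_apply, hg, hg, map_smul, sq_eq hS, hT a ha, smul_smul,
        smul_smul, OneMemClass.coe_one, map_one]
      rcases hc with rfl | rfl <;> simp))
  have hcommP : IsMulCommutative P := ⟨⟨fun x y => Subtype.ext (by
    have e1 := hP2 x x.2
    have e2 := hP2 y y.2
    have e3 := hP2 _ (P.mul_mem x.2 y.2)
    calc (x : R) * y = ((x : R) * y)⁻¹ := (inv_eq_of_mul_eq_one_right e3).symm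
      _ = (y : R)⁻¹ * (x : R)⁻¹ := mul_inv_rev _ _
      _ = _ := by rw [inv_eq_of_mul_eq_one_right e1, inv_eq_of_mul_eq_one_right e2]; rfl)⟩⟩
  have hlt : Nat.card P < 2 ^ (2 + 1) := hminus P hcommP hP2
  let m : T × Bool → P := fun xb => ⟨cond xb.2 ⟨scalarGL ι F (-1), hm1⟩ 1 * r (xb.1 : A),
    xb.1, xb.1.2, cond xb.2 (-1) 1, by cases xb.2 <;> simp, fun v => by
      rw [Subgroup.coe_mul, map_mul, LinearEquiv.mul_apply, ← heq]
      cases xb.2
      · rw [cond_false, cond_false, OneMemClass.coe_one, map_one, one_smul]; rfl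
      · rw [cond_true, cond_true, scalarGL_apply]; simp⟩
  have hm : Function.Injective m := by
    rintro ⟨x, b⟩ ⟨x', b'⟩ e
    have e' : ∀ v, cond b (-1 : F) 1 • Φ.u x v = cond b' (-1 : F) 1 • Φ.u x' v := fun v => by
      have := congrArg (fun g : P => toV ι F ((g : R) : GL ι F) v) e
      simp only [m, Subgroup.coe_mul, map_mul, LinearEquiv.mul_apply, ← heq] at this
      cases b <;> cases b' <;> simpa [scalarGL_apply] using this
    have hxx : (x : A) = x' := by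
      by_contra hne
      have hinj : Function.Injective ![(x : A), x'] := by
        intro i j h
        fin_cases i <;> fin_cases j <;> simp [hne, Ne.symm hne] at h ⊢
      have h0 := Fintype.linearIndependent_iff.mp (Φ.indep.comp _ hinj)
        ![cond b (-1 : F) 1, -cond b' (-1 : F) 1] (LinearMap.ext fun v => by
          rw [LinearMap.sum_apply, Fin.sum_univ_two]
          show cond b (-1 : F) 1 • Φ.u x v + (-cond b' (-1 : F) 1) • Φ.u x' v = 0
          rw [e', neg_smul, add_neg_cancel]) 0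
      cases b <;> simp at h0
    have hb : b = b' := by
      have := Φ.smul_inj (a := (x : A)) fun v => (e' v).trans (by rw [hxx])
      cases b <;> cases b' <;> simp [Φ.one_ne_neg, Φ.one_ne_neg.symm] at this ⊢
    exact Prod.ext (Subtype.ext hxx) hb
  have h5 := Nat.card_le_card_of_injective m hm
  rw [Nat.card_prod, Nat.card_eq_fintype_card (α := Bool), Fintype.card_bool] at h5
  obtain ⟨l, hl⟩ := (AddSubgroup.card_dvd_of_le (le_top : T ≤ ⊤))
  have hdvd : Nat.card T ∣ 2 ^ 4 := hA ▸ AddSubgroup.card_addSubgroup_dvd_card T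
  obtain ⟨j, hj, ej⟩ := (Nat.dvd_prime_pow Nat.prime_two).mp hdvd
  rw [ej] at h5 ⊢
  interval_cases j <;> omega

section Five

variable {V : Type*} [AddCommGroup V] [Module F V] [FiniteDimensional F V] {A : Type*} [AddCommGroup A] [Finite A]
variable {β' : Bil F V} {Φ : Data F V A}

/-- A frame of order sixteen of minus type has five pairwise anticommuting singular indices, which are all. -/
theorem exists_five (hS : β'.Setup Φ) (hA : Nat.card A = 16) (hno : NoSing Φ 2) :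
    ∃ f : Fin 5 → A, Function.Injective f ∧ (∀ i, f i ≠ 0 ∧ dd Φ (f i) = 1) ∧
      (∀ i j, i ≠ j → Φ.sg (f i) (f j) = -1) ∧ (∀ a, dd Φ a = 1 → a = 0 ∨ ∃ i, a = f i) ∧
      ∀ S : AddSubgroup A, (∀ i, f i ∈ S) → S = ⊤ := by
  classical
  -- an anticommuting pair and a second one orthogonal to it
  haveI : Nontrivial A := Finite.one_lt_card_iff_nontrivial.mp (by omega)
  obtain ⟨x, hx⟩ := exists_ne (0 : A)
  obtain ⟨y, hxy⟩ := Φ.nd x hx
  have hcr := Φ.card_rest (x := x) (z := y) hxy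
  haveI : Nontrivial (Φ.rest x y) := Finite.one_lt_card_iff_nontrivial.mp (by omega)
  obtain ⟨⟨z, hz⟩, hz0⟩ := exists_ne (0 : Φ.rest x y)
  have hz0' : z ≠ 0 := fun e => hz0 (Subtype.ext e)
  obtain ⟨hxz, hyz⟩ := Φ.mem_perp_two.mp hz
  obtain ⟨w0, hzw0⟩ := Φ.nd z hz0'
  obtain ⟨w, hxw, hyw, hzw⟩ : ∃ w, Φ.sg x w = 1 ∧ Φ.sg y w = 1 ∧ Φ.sg z w = -1 := by
    obtain ⟨s, hs⟩ : ∃ s, s = w0 + (if Φ.sg y w0 = -1 then x else 0) + (if Φ.sg x w0 = -1 then y else 0) := ⟨_, rfl⟩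
    have e1 : Φ.sg y x = -1 := by rw [Φ.sg_symm x y]; exact hxy
    have e2 : Φ.sg z x = 1 := by rw [Φ.sg_symm x z]; exact hxz
    have e3 : Φ.sg z y = 1 := by rw [Φ.sg_symm y z]; exact hyz
    refine ⟨s, ?_, ?_, ?_⟩ <;> rw [hs] <;> rcases Φ.sign x w0 with a | a <;> rcases Φ.sign y w0 with b | b <;>
      simp [Φ.sg_add, Φ.sg_zero, Φ.sg_self, a, b, e1, e2, e3, hxy, hzw0, Φ.one_ne_neg, Φ.one_ne_neg.symm]
  -- one pair squares to minus one throughout, the other has two singular members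
  have norm : ∀ a b : A, Φ.sg a b = -1 →
      (∃ p q, Φ.sg p q = -1 ∧ dd Φ p = -1 ∧ dd Φ q = -1 ∧ ∀ c, Φ.sg a c = 1 → Φ.sg b c = 1 →
        Φ.sg p c = 1 ∧ Φ.sg q c = 1) ∧ dd Φ a = -1 ∧ dd Φ b = -1 ∨
      ∃ r s, Φ.sg r s = -1 ∧ dd Φ r = 1 ∧ dd Φ s = 1 ∧ ∀ c, Φ.sg a c = 1 → Φ.sg b c = 1 →
        Φ.sg r c = 1 ∧ Φ.sg s c = 1 := by
    intro a b hab
    have hba : Φ.sg b a = -1 := by rw [Φ.sg_symm a b]; exact hab
    rcases dd_sign (Φ := Φ) a with ha | ha <;> rcases dd_sign (Φ := Φ) b with hb | hb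
    · exact Or.inr ⟨a, b, hab, ha, hb, fun c h h' => ⟨h, h'⟩⟩
    · refine Or.inr ⟨a, a + b, ?_, ha, ?_, fun c h h' => ⟨h, by rw [Φ.sg_add_left, h, h', one_mul]⟩⟩
      · rw [Φ.sg_add, Φ.sg_self, hab, one_mul]
      · rw [dd_add hS, hab, ha, hb]; ring
    · refine Or.inr ⟨a + b, b, ?_, ?_, hb, fun c h h' => ⟨by rw [Φ.sg_add_left, h, h', one_mul], h'⟩⟩
      · rw [Φ.sg_add_left, hab, Φ.sg_self, mul_one]
      · rw [dd_add hS, hab, ha, hb]; ring
    · exact Or.inl ⟨⟨a, b, hab, ha, hb, fun c h h' => ⟨h, h'⟩⟩, ha, hb⟩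
  obtain ⟨p, q, r, s, hpq, hrs, hpr, hps, hqr, hqs, hp, hq, hr, hs⟩ : ∃ p q r s, Φ.sg p q = -1 ∧ Φ.sg r s = -1 ∧
      Φ.sg p r = 1 ∧ Φ.sg p s = 1 ∧ Φ.sg q r = 1 ∧ Φ.sg q s = 1 ∧
      dd Φ p = -1 ∧ dd Φ q = -1 ∧ dd Φ r = 1 ∧ dd Φ s = 1 := by
    have hzx : Φ.sg z x = 1 := by rw [Φ.sg_symm x z]; exact hxz
    have hzy : Φ.sg z y = 1 := by rw [Φ.sg_symm y z]; exact hyz
    have hwx : Φ.sg w x = 1 := by rw [Φ.sg_symm x w]; exact hxw
    have hwy : Φ.sg w y = 1 := by rw [Φ.sg_symm y w]; exact hyw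
    rcases norm x y hxy with ⟨-, hx1, hy1⟩ | ⟨a, b, hab, ha, hb, hc⟩ <;>
      rcases norm z w hzw with ⟨-, hz1, hw1⟩ | ⟨c, d, hcd, hc1, hd1, hcd'⟩
    · exfalso
      have e1 : dd Φ (x + z) = 1 := by rw [dd_add hS, hxz, hx1, hz1]; ring
      have e2 : dd Φ (y + w) = 1 := by rw [dd_add hS, hyw, hy1, hw1]; ring
      have e3 : Φ.sg (x + z) (y + w) = 1 := by
        rw [Φ.sg_add_left, Φ.sg_add, Φ.sg_add, hxy, hxw, hzy, hzw]; ring
      have e4 : dd Φ (x + z + (y + w)) = 1 := by rw [dd_add hS, e1, e2, e3]; ring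
      have n1 : x ≠ z := fun e => Φ.one_ne_neg (by rw [← hxy, e, hzy])
      have n2 : y ≠ w := fun e => Φ.one_ne_neg (by rw [← hxy, e, hxw])
      have h := hno.two_pair e1 e2 e4 (dd_zero hS) (Φ.add_ne_zero n1) (Φ.add_ne_zero n2)
      have h' := congrArg (Φ.sg x) h
      rw [Φ.sg_add, Φ.sg_add, Φ.sg_self, hxz, hxy, hxw] at h'
      exact Φ.one_ne_neg (by linear_combination h')
    · obtain ⟨h1, h2⟩ := hcd' x hzx hwx
      obtain ⟨h3, h4⟩ := hcd' y hzy hwy
      exact ⟨x, y, c, d, hxy, hcd, by rw [Φ.sg_symm c x]; exact h1, by rw [Φ.sg_symm d x]; exact h2,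
        by rw [Φ.sg_symm c y]; exact h3, by rw [Φ.sg_symm d y]; exact h4, hx1, hy1, hc1, hd1⟩
    · obtain ⟨h1, h2⟩ := hc z hxz hyz
      obtain ⟨h3, h4⟩ := hc w hxw hyw
      exact ⟨z, w, a, b, hzw, hab, by rw [Φ.sg_symm a z]; exact h1, by rw [Φ.sg_symm b z]; exact h2,
        by rw [Φ.sg_symm a w]; exact h3, by rw [Φ.sg_symm b w]; exact h4, hz1, hw1, ha, hb⟩
    · exfalso
      obtain ⟨h1, h2⟩ := hcd' x hzx hwx
      obtain ⟨h3, h4⟩ := hcd' y hzy hwy
      obtain ⟨h5, h6⟩ := hc c (by rw [Φ.sg_symm c x]; exact h1) (by rw [Φ.sg_symm c y]; exact h3)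
      obtain ⟨h7, -⟩ := hc d (by rw [Φ.sg_symm d x]; exact h2) (by rw [Φ.sg_symm d y]; exact h4)
      have e4 : dd Φ (a + c) = 1 := by rw [dd_add hS, h5, ha, hc1]; ring
      have n1 : a ≠ 0 := fun e => Φ.one_ne_neg (by rw [← hab, Φ.sg_symm b a, e, Φ.sg_zero])
      have n2 : c ≠ 0 := fun e => Φ.one_ne_neg (by rw [← hcd, Φ.sg_symm d c, e, Φ.sg_zero])
      have h := hno.two_pair ha hc1 e4 (dd_zero hS) n1 n2
      rw [← h, h7] at hcd
      exact Φ.one_ne_neg hcd
  have hqp : Φ.sg q p = -1 := by rw [Φ.sg_symm p q]; exact hpq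
  have hsr : Φ.sg s r = -1 := by rw [Φ.sg_symm r s]; exact hrs
  have hrp : Φ.sg r p = 1 := by rw [Φ.sg_symm p r]; exact hpr
  have hsp : Φ.sg s p = 1 := by rw [Φ.sg_symm p s]; exact hps
  have hrq : Φ.sg r q = 1 := by rw [Φ.sg_symm q r]; exact hqr
  have hsq : Φ.sg s q = 1 := by rw [Φ.sg_symm q s]; exact hqs
  -- the sixteen combinations
  let e : (Bool × Bool) × (Bool × Bool) → A := fun c =>
    (cond c.1.1 p 0 + cond c.1.2 q 0) + (cond c.2.1 r 0 + cond c.2.2 s 0)
  have he : Function.Injective e := by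
    have hsg : ∀ t c, Φ.sg t (e c) =
        (cond c.1.1 (Φ.sg t p) 1 * cond c.1.2 (Φ.sg t q) 1) * (cond c.2.1 (Φ.sg t r) 1 * cond c.2.2 (Φ.sg t s) 1) := by
      rintro t ⟨⟨b1, b2⟩, b3, b4⟩
      cases b1 <;> cases b2 <;> cases b3 <;> cases b4 <;> simp [e, Φ.sg_add, Φ.sg_zero]
    rintro ⟨⟨a1, a2⟩, a3, a4⟩ ⟨⟨b1, b2⟩, b3, b4⟩ h
    have k1 := (hsg p _).symm.trans ((congrArg (Φ.sg p) h).trans (hsg p _))
    have k2 := (hsg q _).symm.trans ((congrArg (Φ.sg q) h).trans (hsg q _))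
    have k3 := (hsg r _).symm.trans ((congrArg (Φ.sg r) h).trans (hsg r _))
    have k4 := (hsg s _).symm.trans ((congrArg (Φ.sg s) h).trans (hsg s _))
    simp only [Φ.sg_self, hpq, hqp, hrs, hsr, hpr, hps, hqr, hqs, hrp, hsp, hrq, hsq] at k1 k2 k3 k4
    have hc : ∀ b b' : Bool, cond b (-1 : F) 1 = cond b' (-1) 1 → b = b' := fun b b' => by
      cases b <;> cases b' <;> simp [Φ.one_ne_neg, Φ.one_ne_neg.symm]
    simp only [Bool.cond_self, one_mul, mul_one] at k1 k2 k3 k4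
    rw [hc a2 b2 k1, hc a1 b1 k2, hc a4 b4 k3, hc a3 b3 k4]
  have hsurj : Function.Surjective e := ((Nat.bijective_iff_injective_and_card e).mpr ⟨he, by
    rw [hA, Nat.card_eq_fintype_card]; simp⟩).2
  obtain ⟨f, hf⟩ : ∃ f : Fin 5 → A, f = ![r, s, p + (r + s), q + (r + s), p + q + (r + s)] := ⟨_, rfl⟩
  have hrs1 : dd Φ (r + s) = -1 := by rw [dd_add hS, hrs, hr, hs]; ring
  have hf1 : ∀ i, dd Φ (f i) = 1 := fun i => by
    fin_cases i <;> simp [hf, dd_add hS, Φ.sg_add, Φ.sg_add_left, hrs, hr, hs, hp, hq, hpq, hpr, hps, hqr, hqs]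
  have hfa : ∀ i j, i ≠ j → Φ.sg (f i) (f j) = -1 := fun i j hij => by
    fin_cases i <;> fin_cases j <;> first
      | exact absurd rfl hij
      | simp [hf, Φ.sg_add, Φ.sg_add_left, Φ.sg_self, hpq, hqp, hrs, hsr, hpr, hps, hqr, hqs, hrp, hsp, hrq, hsq]
  have hf0 : ∀ i, f i ≠ 0 := fun i e0 => by
    have h := hfa (i + 1) i (by fin_cases i <;> decide)
    rw [e0, Φ.sg_zero] at h
    exact Φ.one_ne_neg h
  refine ⟨f, fun i j h => ?_, fun i => ⟨hf0 i, hf1 i⟩, hfa, fun a ha => ?_, fun S hS' => ?_⟩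
  · by_contra hne
    have := hfa i j hne
    rw [h, Φ.sg_self] at this
    exact Φ.one_ne_neg this
  · obtain ⟨⟨⟨b1, b2⟩, b3, b4⟩, rfl⟩ := hsurj a
    cases b1 <;> cases b2 <;> cases b3 <;> cases b4 <;>
      simp [e, dd_add hS, dd_zero hS, Φ.sg_add, Φ.sg_add_left, Φ.sg_zero, hrs, hr, hs, hp, hq, hpq, hpr, hps, hqr,
        hqs, Φ.one_ne_neg, Φ.one_ne_neg.symm] at ha <;>
      first
        | (left; simp [e]; done)
        | (right; refine ⟨0, ?_⟩; simp [e, hf]; done)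
        | (right; refine ⟨1, ?_⟩; simp [e, hf]; done)
        | (right; refine ⟨2, ?_⟩; simp [e, hf]; done)
        | (right; refine ⟨3, ?_⟩; simp [e, hf]; done)
        | (right; refine ⟨4, ?_⟩; simp [e, hf]; done)
  · have hr' : r ∈ S := by simpa [hf] using hS' 0
    have hs' : s ∈ S := by simpa [hf] using hS' 1
    have hp' : p ∈ S := by
      have := S.sub_mem (by simpa [hf] using hS' 2 : p + (r + s) ∈ S) (S.add_mem hr' hs')
      simpa using this
    have hq' : q ∈ S := by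
      have := S.sub_mem (by simpa [hf] using hS' 3 : q + (r + s) ∈ S) (S.add_mem hr' hs')
      simpa using this
    refine (AddSubgroup.eq_top_iff' S).mpr fun a => ?_
    obtain ⟨⟨⟨b1, b2⟩, b3, b4⟩, rfl⟩ := hsurj a
    cases b1 <;> cases b2 <;> cases b3 <;> cases b4 <;>
      simp [e, S.add_mem, S.zero_mem, hp', hq', hr', hs']

end Five

end Cfsg.Agent.Classical.SpFourOdd
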