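/-
The action on the span of five anticommuting self-adjoint frame maps, and the maximality of the normaliser.
-/
import Cfsg.Agent.Lib.Classical.SpFourOdd.Minus
import Cfsg.Agent.Lib.Classical.MonomFrame.Five
import Cfsg.Agent.Lib.Classical.Frame.Bil.BigSp
import Cfsg.Agent.Lib.Classical.SpOvergroup

set_option autoImplicit false
set_option linter.unusedSectionVars false

namespace Cfsg.Agent.Classical.SpFourOdd

open Module Matrix Cfsg.Geo QuadraticMap
open Cfsg.Agent.Classical Cfsg.Agent.Classical.Frame Cfsg.Agent.Classical.Frame.Bil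
open Cfsg.Agent.Classical.MFrame Cfsg.Agent.Classical.OCount Cfsg.Agent.Classical.ORefl
open Cfsg.Agent.Classical.OOmega

universe u v w

namespace Klein

variable {F : Type u} [Field F] {V : Type v} [AddCommGroup V] [Module F V] [FiniteDimensional F V]
  {A : Type w} [AddCommGroup A] [Finite A] {β : Bil F V} {Φ : Data F V A}

/-- The combination of five frame maps. -/
def emb (Φ : Data F V A) (f : Fin 5 → A) : (Fin 5 → F) →ₗ[F] End F V where
  toFun c := ∑ i, c i • Φ.m (f i)
  map_add' c d := by simp [add_smul, Finset.sum_add_distrib]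
  map_smul' a c := by simp [Finset.smul_sum, smul_smul]

theorem emb_apply (f : Fin 5 → A) (c : Fin 5 → F) : emb Φ f c = ∑ i, c i • Φ.m (f i) := rfl

theorem emb_single (f : Fin 5 → A) (i : Fin 5) : emb Φ f (Pi.single i 1) = Φ.m (f i) := by
  rw [emb_apply, Finset.sum_eq_single i (fun j _ h => by rw [Pi.single_eq_of_ne h, zero_smul])
    (fun h => absurd (Finset.mem_univ i) h), Pi.single_eq_same, one_smul]

/-- The five indices. -/
structure Five (β : Bil F V) (Φ : Data F V A) (f : Fin 5 → A) : Prop where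
  setup : β.Setup Φ
  inj : Function.Injective f
  ne : ∀ i, f i ≠ 0 ∧ dd Φ (f i) = 1
  anti : ∀ i j, i ≠ j → Φ.sg (f i) (f j) = -1
  all : ∀ a, dd Φ a = 1 → a = 0 ∨ ∃ i, a = f i
  gen : ∀ S : AddSubgroup A, (∀ i, f i ∈ S) → S = ⊤

/-- The sum of squares. -/
def qq : QuadraticForm F (Fin 5 → F) :=
  QuadraticMap.weightedSumSquares F (fun _ : Fin 5 => (1 : F))

theorem qq_apply (c : Fin 5 → F) : qq c = ∑ i, c i * c i := by
  rw [qq, QuadraticMap.weightedSumSquares_apply]
  simp

variable {f : Fin 5 → A} (h : Five β Φ f)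

include h

theorem emb_sq (c : Fin 5 → F) : emb Φ f c * emb Φ f c = qq c • (1 : End F V) := by
  refine LinearMap.ext fun v => ?_
  have hsq : ∀ i v, Φ.u (f i) (Φ.u (f i) v) = v := fun i => not_one h.setup (h.ne i).2
  have ha : ∀ i j, j < i → ∀ v, Φ.u (f i) (Φ.u (f j) v) = -Φ.u (f j) (Φ.u (f i) v) := fun i j hij v => by
    rw [Φ.comm (f i) (f j), h.anti i j hij.ne', neg_one_smul]
  have hm : ∀ a x, Φ.m a x = Φ.u a x := fun a x => rfl
  simp only [emb_apply, qq_apply, Fin.sum_univ_five, Module.End.mul_apply, LinearMap.add_apply, LinearMap.smul_apply,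
    hm, map_add, map_smul, Module.End.one_apply, hsq, ha 1 0 (by decide), ha 2 0 (by decide), ha 3 0 (by decide),
    ha 4 0 (by decide), ha 2 1 (by decide), ha 3 1 (by decide), ha 4 1 (by decide), ha 3 2 (by decide),
    ha 4 2 (by decide), ha 4 3 (by decide)]
  module

theorem m_zero : ∃ s : F, s ≠ 0 ∧ Φ.m 0 = s • (1 : End F V) := by
  obtain ⟨s, hs, hv⟩ := Φ.u_zero
  exact ⟨s, hs, LinearMap.ext fun v => hv v⟩

theorem scal_unique {t : F} {c : Fin 5 → F} (e : t • (1 : End F V) + emb Φ f c = 0) : t = 0 ∧ c = 0 := by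
  classical
  haveI := Fintype.ofFinite A
  obtain ⟨s, hs, hm⟩ := m_zero h
  have key := Fintype.linearIndependent_iff.mp
    (Φ.indep.comp (fun o : Option (Fin 5) => o.elim 0 f) (fun a b e => by
      cases a <;> cases b <;> simp only [Option.elim] at e
      · rfl
      · exact absurd e.symm (h.ne _).1
      · exact absurd e (h.ne _).1
      · exact congrArg some (h.inj e)))
    (fun o => o.elim (t * s⁻¹) c) (by
      rw [Fintype.sum_option]
      simp only [Function.comp_apply, Option.elim]
      rw [hm, smul_smul, inv_mul_cancel_right₀ hs, ← emb_apply, e])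
  refine ⟨?_, funext fun i => key (some i)⟩
  have := key none
  simp only [Option.elim] at this
  exact (mul_eq_zero.mp this).resolve_right (inv_ne_zero hs)

theorem emb_injective : Function.Injective (emb Φ f) := fun c d e =>
  sub_eq_zero.mp (scal_unique h (t := 0) (by rw [zero_smul, zero_add, map_sub, e, sub_self])).2

theorem selfadj_u (i : Fin 5) (v w : V) : β.B (Φ.u (f i) v) w = β.B v (Φ.u (f i) w) := by
  rw [← h.setup.isom (f i) v (Φ.u (f i) w), not_one h.setup (h.ne i).2]

theorem emb_selfadj (c : Fin 5 → F) (v w : V) : β.B (emb Φ f c v) w = β.B v (emb Φ f c w) := by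
  have hm : ∀ a x, Φ.m a x = Φ.u a x := fun a x => rfl
  simp only [emb_apply, Fin.sum_univ_five, LinearMap.add_apply, LinearMap.smul_apply, hm, β.add_left, β.add_right,
    β.smul_left, β.smul_right, selfadj_u h]

/-- The self-adjoint maps are the scalars and the combinations of the five. -/
theorem exists_coords {X : End F V} (hX : ∀ v w, β.B (X v) w = β.B v (X w)) :
    ∃ (t : F) (c : Fin 5 → F), X = t • 1 + emb Φ f c := by
  classical
  haveI := Fintype.ofFinite A
  obtain ⟨k, hk⟩ := (Submodule.mem_span_range_iff_exists_fun F).mp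
    (Φ.span_top ▸ Submodule.mem_top : X ∈ Submodule.span F (Set.range Φ.m))
  have hm : ∀ a x, Φ.m a x = Φ.u a x := fun a x => rfl
  have hadj : ∀ a v w, β.B (Φ.u a v) w = dd Φ a * β.B v (Φ.u a w) := fun a v w => by
    conv_rhs => rw [← h.setup.isom a v (Φ.u a w), sq_eq h.setup, β.smul_right, ← mul_assoc, dd_sq, one_mul]
  have hsuml : ∀ (g : A → V) (w : V), β.B (∑ a, g a) w = ∑ a, β.B (g a) w := fun g w =>
    map_sum (AddMonoidHom.mk' (fun v => β.B v w) (fun v v' => β.add_left v v' w)) g Finset.univ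
  have hsumr : ∀ (g : A → V) (v : V), β.B v (∑ a, g a) = ∑ a, β.B v (g a) := fun g v =>
    map_sum (AddMonoidHom.mk' (fun w => β.B v w) (fun w w' => β.add_right v w w')) g Finset.univ
  have hY : ∀ a, dd Φ a * k a = k a := by
    have e : (∑ a, (dd Φ a * k a) • Φ.m a) = X := LinearMap.ext fun w => by
      refine β.ext fun v => ?_
      rw [β.swap v, β.swap v (X w), ← hX v w, ← hk]
      congr 1
      rw [LinearMap.sum_apply, LinearMap.sum_apply, hsuml, hsumr]
      refine Finset.sum_congr rfl fun a _ => ?_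
      rw [LinearMap.smul_apply, LinearMap.smul_apply, β.smul_right, β.smul_left, hm, hm, hadj]
      ring
    intro a
    refine sub_eq_zero.mp (Fintype.linearIndependent_iff.mp Φ.indep (fun a => dd Φ a * k a - k a) ?_ a)
    rw [Finset.sum_congr rfl fun a _ => sub_smul _ _ _, Finset.sum_sub_distrib, e, hk, sub_self]
  obtain ⟨s, hs, hm0⟩ := m_zero h
  refine ⟨k 0 * s, fun i => k (f i), ?_⟩
  rw [← hk, emb_apply, ← smul_smul, ← hm0]
  have h0 : (0 : A) ∉ Finset.univ.image f := fun e => by
    obtain ⟨i, -, hi⟩ := Finset.mem_image.mp e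
    exact (h.ne i).1 hi
  rw [← Finset.sum_subset (Finset.subset_univ (insert 0 (Finset.univ.image f))) fun a _ ha => ?_,
    Finset.sum_insert h0, Finset.sum_image fun i _ j _ e => h.inj e]
  rw [Finset.mem_insert, Finset.mem_image, not_or] at ha
  have hd : dd Φ a = -1 := (dd_sign a).resolve_left fun e => by
    rcases h.all a e with rfl | ⟨i, rfl⟩
    · exact ha.1 rfl
    · exact ha.2 ⟨i, Finset.mem_univ i, rfl⟩
  have h2 := hY a
  rw [hd] at h2
  rw [(mul_eq_zero.mp (show (2 : F) * k a = 0 by linear_combination -h2)).resolve_left Φ.two, zero_smul]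

/-- Conjugation by an isometry keeps the span of the five. -/
theorem conj_coords {g : V ≃ₗ[F] V} (hg : β.Isom g) (c : Fin 5 → F) :
    ∃ c' : Fin 5 → F, ∀ v, g (emb Φ f c v) = emb Φ f c' (g v) := by
  obtain ⟨t, c', e⟩ := exists_coords h (X := g.toLinearMap ∘ₗ emb Φ f c ∘ₗ g.symm.toLinearMap) fun v w => by
    show β.B (g (emb Φ f c (g.symm v))) w = β.B v (g (emb Φ f c (g.symm w)))
    conv_lhs => rw [← g.apply_symm_apply w]
    conv_rhs => rw [← g.apply_symm_apply v]
    rw [hg, hg, emb_selfadj h]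
  have ev : ∀ v, g (emb Φ f c v) = t • g v + emb Φ f c' (g v) := fun v => by
    simpa using LinearMap.congr_fun e (g v)
  refine ⟨c', fun v => ?_⟩
  suffices t = 0 by rw [ev, this, zero_smul, zero_add]
  have hsq : (t * t + qq c' - qq c) • (1 : End F V) + emb Φ f ((2 * t) • c') = 0 := by
    refine LinearMap.ext fun w => ?_
    obtain ⟨v, rfl⟩ := g.surjective w
    have e1 : g (emb Φ f c (emb Φ f c v)) = qq c • g v := by
      rw [show emb Φ f c (emb Φ f c v) = qq c • v from LinearMap.congr_fun (emb_sq h c) v, map_smul]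
    rw [ev (emb Φ f c v), ev v, map_add, map_smul,
      show emb Φ f c' (emb Φ f c' (g v)) = qq c' • g v from LinearMap.congr_fun (emb_sq h c') (g v)] at e1
    rw [map_smul]
    simp only [LinearMap.add_apply, LinearMap.smul_apply, Module.End.one_apply, LinearMap.zero_apply]
    linear_combination (norm := module) e1
  obtain ⟨-, h2⟩ := scal_unique h hsq
  by_contra ht
  have hc' : c' = 0 := (smul_eq_zero.mp h2).resolve_left (mul_ne_zero Φ.two ht)
  have e0 : emb Φ f c = t • 1 := LinearMap.ext fun v => g.injective (by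
    rw [ev, hc', map_zero, LinearMap.zero_apply, add_zero, LinearMap.smul_apply, Module.End.one_apply, map_smul])
  exact ht (neg_eq_zero.mp (scal_unique h (t := -t) (c := c) (by rw [e0, ← add_smul, neg_add_cancel, zero_smul])).1)

/-- The action of an isometry on the span of the five. -/
noncomputable def co (g : V ≃ₗ[F] V) (hg : β.Isom g) (c : Fin 5 → F) : Fin 5 → F :=
  Classical.choose (conj_coords h hg c)

theorem co_spec (g : V ≃ₗ[F] V) (hg : β.Isom g) (c : Fin 5 → F) (v : V) :
    g (emb Φ f c v) = emb Φ f (co h g hg c) (g v) :=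
  Classical.choose_spec (conj_coords h hg c) v

theorem co_unique (g : V ≃ₗ[F] V) (hg : β.Isom g) {c d : Fin 5 → F}
    (e : ∀ v, g (emb Φ f c v) = emb Φ f d (g v)) : co h g hg c = d :=
  emb_injective h (LinearMap.ext fun w => by
    obtain ⟨v, rfl⟩ := g.surjective w
    rw [← co_spec h g hg, e])

theorem qq_co (g : V ≃ₗ[F] V) (hg : β.Isom g) (c : Fin 5 → F) : qq (co h g hg c) = qq c := by
  obtain ⟨v, hv⟩ := Φ.exists_ne
  refine smul_left_injective F (fun e => hv (g.map_eq_zero_iff.mp e)) ?_
  show qq (co h g hg c) • g v = qq c • g v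
  rw [← map_smul g (qq c), ← show emb Φ f c (emb Φ f c v) = qq c • v from LinearMap.congr_fun (emb_sq h c) v,
    ← show emb Φ f (co h g hg c) (emb Φ f (co h g hg c) (g v)) = qq (co h g hg c) • g v from
      LinearMap.congr_fun (emb_sq h _) (g v), co_spec h g hg, co_spec h g hg]

theorem co_comp {g k : V ≃ₗ[F] V} (hg : β.Isom g) (hk : β.Isom k) (c : Fin 5 → F) :
    co h (g * k) (hg.mul' hk) c = co h g hg (co h k hk c) :=
  co_unique h _ _ fun v => by
    show g (k (emb Φ f c v)) = emb Φ f _ (g (k v))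
    rw [co_spec h k hk, co_spec h g hg]

theorem co_one (hg : β.Isom (1 : V ≃ₗ[F] V)) (c : Fin 5 → F) : co h 1 hg c = c :=
  co_unique h _ _ fun _ => rfl

theorem isom_inv {g : V ≃ₗ[F] V} (hg : β.Isom g) : β.Isom g⁻¹ := fun v w => by
  rw [← hg, show ∀ y, g (g⁻¹ y) = y from g.apply_symm_apply, show ∀ y, g (g⁻¹ y) = y from g.apply_symm_apply]

/-- The action as an isometry of the sum of squares. -/
noncomputable def act (g : V ≃ₗ[F] V) (hg : β.Isom g) : ↥(Iso (qq (F := F))) :=
  ⟨{ toFun := co h g hg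
     map_add' := fun c d => co_unique h g hg fun v => by
       rw [map_add, LinearMap.add_apply, map_add, co_spec h g hg, co_spec h g hg, ← LinearMap.add_apply, ← map_add]
     map_smul' := fun a c => co_unique h g hg fun v => by
       rw [map_smul, LinearMap.smul_apply, map_smul, co_spec h g hg, RingHom.id_apply, map_smul, LinearMap.smul_apply]
     invFun := co h g⁻¹ (isom_inv h hg)
     left_inv := fun c => by
       rw [← co_comp h (isom_inv h hg) hg]
       exact co_unique h _ _ fun v => by rw [inv_mul_cancel]; rfl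
     right_inv := fun c => by
       rw [← co_comp h hg (isom_inv h hg)]
       exact co_unique h _ _ fun v => by rw [mul_inv_cancel]; rfl },
    fun c => qq_co h g hg c⟩

theorem act_spec (g : V ≃ₗ[F] V) (hg : β.Isom g) (c : Fin 5 → F) (v : V) :
    g (emb Φ f c v) = emb Φ f ((act h g hg).1 c) (g v) :=
  co_spec h g hg c v

theorem act_single {g : V ≃ₗ[F] V} (hg : β.Isom g) {i j : Fin 5} {s : F}
    (e : ∀ v, g (Φ.u (f i) v) = s • Φ.u (f j) (g v)) : (act h g hg).1 (Pi.single i 1) = s • Pi.single j 1 :=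
  co_unique h g hg fun v => by rw [map_smul, LinearMap.smul_apply, emb_single, emb_single]; exact e v

omit h in
theorem qq_pnd (h2 : (2 : F) ≠ 0) : PND (qq (F := F)) := fun c hc => funext fun i => by
  have := hc (Pi.single i 1)
  rw [QuadraticMap.polar, qq_apply, qq_apply, qq_apply, ← Finset.sum_sub_distrib, ← Finset.sum_sub_distrib,
    Finset.sum_eq_single i (fun j _ hj => by simp [Pi.single_eq_of_ne hj]) (fun e => absurd (Finset.mem_univ i) e)] at this
  simp only [Pi.add_apply, Pi.single_eq_same] at this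
  exact (mul_eq_zero.mp (show (2 : F) * c i = 0 by linear_combination this)).resolve_left h2

omit h in
/-- The standard frame. -/
noncomputable def frame (h2 : (2 : F) ≠ 0) : Frame (qq (F := F)) 5 where
  bas := Pi.basisFun F (Fin 5)
  c := 1
  c_ne := one_ne_zero
  two := h2
  val i := by
    rw [qq_apply, Pi.basisFun_apply, Finset.sum_eq_single i (fun j _ hj => by simp [Pi.single_eq_of_ne hj])
      (fun e => absurd (Finset.mem_univ i) e)]
    simp
  orth i j hij := by
    rw [QuadraticMap.polar, qq_apply, qq_apply, qq_apply, ← Finset.sum_sub_distrib, ← Finset.sum_sub_distrib]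
    refine Finset.sum_eq_zero fun l _ => ?_
    simp only [Pi.basisFun_apply, Pi.add_apply]
    rcases eq_or_ne l i with rfl | hl
    · rw [Pi.single_eq_of_ne hij]; ring
    · rw [Pi.single_eq_of_ne hl]; ring

omit h in
theorem frame_bas (h2 : (2 : F) ≠ 0) (i : Fin 5) : (frame h2).bas i = Pi.single i 1 := Pi.basisFun_apply F (Fin 5) i

/-- A lifted transvection of a pair rotates its plane and fixes the other three. -/
theorem rotate {i j : Fin 5} (hij : i ≠ j) (hp : One Φ (f i + f j)) :
    ∃ s : F, (s = 1 ∨ s = -1) ∧ (∀ v, tE hp (Φ.u (f i) v) = s • Φ.u (f j) (tE hp v)) ∧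
      (∀ v, tE hp (Φ.u (f j) v) = (-s) • Φ.u (f i) (tE hp v)) ∧
      ∀ k, k ≠ i → k ≠ j → ∀ v, tE hp (Φ.u (f k) v) = Φ.u (f k) (tE hp v) := by
  have key : ∀ a b, a = f i + f j + b → Φ.sg (f i + f j) b = -1 → ∃ μ : F, (μ = 1 ∨ μ = -1) ∧
      (∀ v, Φ.u (f i + f j) (Φ.u b v) = μ • Φ.u a v) ∧
      ∀ v, tE hp (Φ.u b v) = μ • Φ.u a (tE hp v) := by
    intro a b ha hs
    obtain ⟨μ, hμ⟩ := Φ.mul (f i + f j) b
    have hμ' := mul_const h.setup hμ
    rw [← ha] at hμ
    refine ⟨μ, hμ', hμ, fun v => ?_⟩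
    have e1 : ∀ v, μ • Φ.u a (Φ.u (f i + f j) v) = Φ.u b v := fun v => by
      rw [← hμ, Φ.comm b (f i + f j), Φ.sg_symm (f i + f j) b, hs, neg_one_smul, map_neg, hp, neg_neg]
    rw [tE_apply, tE_apply, map_add, smul_add, e1, ← hμ, add_comm]
  have e : f j = f i + f j + f i := by rw [add_comm (f i), add_assoc, Φ.elem, add_zero]
  have e' : f i = f i + f j + f j := (Φ.add_self_cancel _ _).symm
  obtain ⟨μ, hμ, hu, ht⟩ := key (f j) (f i) e (by rw [Φ.sg_add_left, Φ.sg_self, h.anti j i hij.symm, one_mul])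
  obtain ⟨μ', hμ', hu', ht'⟩ := key (f i) (f j) e' (by rw [Φ.sg_add_left, Φ.sg_self, h.anti i j hij, mul_one])
  have hmm : μ' = -μ := by
    obtain ⟨v, hv⟩ := Φ.exists_ne
    have e2 := congrArg (Φ.u (f i + f j)) (hu v)
    rw [hp, map_smul, hu', smul_smul] at e2
    have : μ * μ' = -1 := smul_left_injective F (fun e => hv ((Φ.u (f i)).map_eq_zero_iff.mp e))
      (show (μ * μ') • Φ.u (f i) v = (-1 : F) • Φ.u (f i) v by rw [neg_one_smul, ← e2])
    rcases hμ with rfl | rfl
    · linear_combination this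
    · linear_combination -this
  refine ⟨μ, hμ, ht, hmm ▸ ht', fun k hki hkj v => (tE_tz hp).comm ?_ v⟩
  rw [Φ.sg_add_left, h.anti i k (Ne.symm hki), h.anti j k (Ne.symm hkj)]; ring

end Klein

end Cfsg.Agent.Classical.SpFourOdd
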