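/-
The normaliser of a minus type group of order thirty-two is maximal in four-dimensional symplectic groups of
prime fields.
-/
import Cfsg.Agent.Lib.Classical.SpFourOdd.Klein

set_option autoImplicit false
set_option linter.unusedSectionVars false

namespace Cfsg.Agent.Classical.SpFourOdd

open Module Matrix Cfsg.Geo QuadraticMap
open Cfsg.Agent.Classical Cfsg.Agent.Classical.Frame Cfsg.Agent.Classical.Frame.Bil
open Cfsg.Agent.Classical.MFrame Cfsg.Agent.Classical.OCount Cfsg.Agent.Classical.ORefl
open Cfsg.Agent.Classical.OOmega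

universe u

namespace Klein

variable {F : Type u} [Field F] [Fintype F]

/-- The homomorphism to the isometries of five squares. -/
noncomputable def rho {β : Bil F (Fin 2 ⊕ Fin 2 → F)} {A : Type u} [AddCommGroup A] [Finite A]
    {Φ : Data F (Fin 2 ⊕ Fin 2 → F) A} {f : Fin 5 → A} (h : Five β Φ f) :
    ↥(isoGL β) →* ↥(Iso (qq (F := F))) where
  toFun g := act h (toV _ F g.1) g.2
  map_one' := Subtype.ext (LinearEquiv.ext fun c =>
    co_unique h (toV _ F (1 : ↥(isoGL β)).1) (1 : ↥(isoGL β)).2 fun v => by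
      rw [OneMemClass.coe_one, map_one]; rfl)
  map_mul' g k := Subtype.ext (LinearEquiv.ext fun c => co_unique h (toV _ F (g * k).1) (g * k).2 fun v => by
    rw [Subgroup.coe_mul, map_mul, LinearEquiv.mul_apply, LinearEquiv.mul_apply, act_spec h _ k.2,
      act_spec h _ g.2]
    rfl)

theorem rho_apply {β : Bil F (Fin 2 ⊕ Fin 2 → F)} {A : Type u} [AddCommGroup A] [Finite A]
    {Φ : Data F (Fin 2 ⊕ Fin 2 → F) A} {f : Fin 5 → A} (h : Five β Φ f) (g : ↥(isoGL β)) (c : Fin 5 → F)
    (v : Fin 2 ⊕ Fin 2 → F) :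
    toV _ F g.1 (emb Φ f c v) = emb Φ f ((rho h g).1 c) (toV _ F g.1 v) :=
  act_spec h _ g.2 c v

/-- **The normaliser of a group of minus type and order thirty-two is maximal.** -/
theorem klein_isMaximal {p : ℕ} (hp : p.Prime) (hodd : Odd (Fintype.card F)) (hF : Fintype.card F = p)
    (R : Subgroup (GL (Fin 2 ⊕ Fin 2) F)) (hR : IsSymplecticTypeGroup 2 R)
    (hirr : ActsAbsolutelyIrreducibly (matrixSet R)) (hRD : R ≤ Cfsg.spGL 2 F) (hcard : Nat.card R = 32)
    (hZ : Nat.card (Subgroup.center R) = 2) (hminus : IsOfMinusType 2 R) :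
    IsMaximalIn (Cfsg.spGL 2 F) (subgroupNormalizer R ⊓ Cfsg.spGL 2 F) := by
  classical
  have h2 : (2 : F) ≠ 0 := two_ne_zero_of_odd_card hodd
  have hsf := sympForm_isSymplectic (m := 2) (F := F)
  let β : Bil F (Fin 2 ⊕ Fin 2 → F) :=
    { B := Cfsg.sympForm 2 F
      ε := -1
      heps := Or.inr rfl
      add_left := hsf.bilinear.add_left
      smul_left := hsf.bilinear.smul_left
      swap := fun v w => by rw [neg_one_mul]; exact hsf.skew w v
      nondeg := fun v hv => by
        by_contra hne
        obtain ⟨x, hx⟩ := (hsf.nondegenerate v hne).2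
        exact hx (hv x) }
  have hSeq : Cfsg.spGL 2 F = isoGL β := by
    ext g
    exact ⟨fun hg v w => hg v w, fun hg v w => hg v w⟩
  rw [hSeq] at hRD ⊢
  obtain ⟨A, _, _, Φ, r, heq, hcov, hm1, hS, hA, hno⟩ :=
    exists_data_minus (β := β) h2 hR hirr hRD (by simp) hcard hZ hminus
  obtain ⟨f, hf1, hf2, hf3, hf4, hf5⟩ := exists_five hS hA hno
  have h : Five β Φ f := ⟨hS, hf1, hf2, hf3, hf4, hf5⟩
  let B : Frame (qq (F := F)) 5 := frame h2
  have hbas : ∀ i, B.bas i = Pi.single i 1 := frame_bas h2
  -- images of elements acting monomially on the five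
  have img : ∀ (g : ↥(isoGL β)) (i j : Fin 5) (s : F),
      (∀ v, toV _ F g.1 (Φ.u (f i) v) = s • Φ.u (f j) (toV _ F g.1 v)) → (rho h g).1 (B.bas i) = s • B.bas j :=
    fun g i j s e => by rw [hbas, hbas]; exact act_single h g.2 e
  -- a monomial image normalises the group
  have hmono : ∀ g : ↥(isoGL β), B.Mono (rho h g) → g.1 ∈ subgroupNormalizer R := by
    intro g hg
    let S : AddSubgroup A :=
      { carrier := {a | ∃ b c, ∀ v, toV _ F g.1 (Φ.u a v) = c • Φ.u b (toV _ F g.1 v)}
        zero_mem' := by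
          obtain ⟨c, hc, hu⟩ := Φ.u_zero
          exact ⟨0, 1, fun v => by rw [one_smul, hu, hu, map_smul]⟩
        add_mem' := by
          rintro a a' ⟨b, c, hb⟩ ⟨b', c', hb'⟩
          obtain ⟨m, hm⟩ := Φ.mul a a'
          obtain ⟨m', hm'⟩ := Φ.mul b b'
          refine ⟨b + b', m⁻¹ * (c' * c * m'), fun v => ?_⟩
          rw [← inv_smul_smul₀ (Φ.mul_ne hm) (Φ.u (a + a') v), ← hm, map_smul, hb, hb', map_smul, hm', smul_smul,
            smul_smul, smul_smul]
          ring_nf
        neg_mem' := fun {a} ha => by rw [Φ.neg_eq]; exact ha }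
    have hS' : S = ⊤ := h.gen S fun i => by
      obtain ⟨j, hj⟩ := hg i
      obtain ⟨s, hj'⟩ : ∃ s : F, (rho h g).1 (B.bas i) = s • B.bas j := by
        rcases hj with e | e
        · exact ⟨1, by rw [e, one_smul]⟩
        · exact ⟨-1, by rw [e, neg_one_smul]⟩
      refine ⟨f j, s, fun v => ?_⟩
      have e := rho_apply h g (Pi.single i 1) v
      rw [← hbas i, hj', hbas, hbas, map_smul, emb_single, emb_single] at e
      exact e
    refine mem_normalizer_of fun x hx => ?_
    obtain ⟨a, d, hxa⟩ := hcov x hx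
    obtain ⟨b, c, hb⟩ := (hS' ▸ AddSubgroup.mem_top a : a ∈ S)
    have hiso : β.Isom (toV _ F (g.1 * x * g.1⁻¹)) :=
      (isoGL β).mul_mem ((isoGL β).mul_mem g.2 (hRD hx)) ((isoGL β).inv_mem g.2)
    have e : ∀ v, toV _ F (g.1 * x * g.1⁻¹) v = (d * c) • Φ.u b v := fun v => by
      obtain ⟨w, rfl⟩ := (toV _ F g.1).surjective v
      simp only [map_mul, map_inv, LinearEquiv.mul_apply]
      rw [show (toV _ F g.1)⁻¹ (toV _ F g.1 w) = w from (toV _ F g.1).symm_apply_apply w, hxa, map_smul, hb, smul_smul]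
    rcases sq_of_isom Φ.exists_ne hiso (hS.isom b) e with hk | hk
    · have e' : g.1 * x * g.1⁻¹ = r b := toV_injective (LinearEquiv.ext fun v => by rw [e, hk, one_smul, heq])
      rw [e']; exact (r b).2
    · have e' : g.1 * x * g.1⁻¹ = scalarGL _ F (-1) * (r b : GL (Fin 2 ⊕ Fin 2) F) :=
        toV_injective (LinearEquiv.ext fun v => by
          rw [e, hk, map_mul, LinearEquiv.mul_apply, scalarGL_apply, heq]; simp)
      rw [e']; exact R.mul_mem hm1 (r b).2
  -- elements of the kernel lie in the group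
  have hker : ∀ g : ↥(isoGL β), rho h g = 1 → g.1 ∈ R := by
    intro g hg
    let S : AddSubgroup A :=
      { carrier := {a | ∀ v, toV _ F g.1 (Φ.u a v) = Φ.u a (toV _ F g.1 v)}
        zero_mem' := by
          obtain ⟨c, hc, hu⟩ := Φ.u_zero
          exact fun v => by rw [hu, hu, map_smul]
        add_mem' := by
          intro a a' ha ha' v
          obtain ⟨m, hm⟩ := Φ.mul a a'
          rw [← inv_smul_smul₀ (Φ.mul_ne hm) (Φ.u (a + a') v), ← hm, map_smul, ha, ha', hm,
            inv_smul_smul₀ (Φ.mul_ne hm)]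
        neg_mem' := fun {a} ha => by rw [Φ.neg_eq]; exact ha }
    have hS' : S = ⊤ := h.gen S fun i v => by
      have e := rho_apply h g (Pi.single i 1) v
      rw [hg, emb_single] at e
      rw [show ((1 : ↥(Iso (qq (F := F)))).1 (Pi.single i 1)) = Pi.single i 1 from rfl, emb_single] at e
      exact e
    obtain ⟨k, hk⟩ := Φ.commutant (toV _ F g.1).toLinearMap fun a v =>
      (hS' ▸ AddSubgroup.mem_top a : a ∈ S) v
    obtain ⟨v, hv⟩ := Φ.exists_ne
    obtain ⟨w, hw⟩ := β.exists_pairing hv
    have hkk : k * k = 1 := by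
      have e := g.2 v w
      rw [show toV _ F g.1 v = k • v from hk v, show toV _ F g.1 w = k • w from hk w, β.smul_left, β.smul_right] at e
      exact mul_right_cancel₀ hw (by linear_combination e)
    rcases mul_self_eq_one_iff.mp hkk with rfl | rfl
    · have e : g.1 = 1 := toV_injective (LinearEquiv.ext fun v => by
        rw [map_one]; exact (hk v).trans (one_smul F v))
      rw [e]; exact R.one_mem
    · have e : g.1 = scalarGL _ F (-1) := toV_injective (LinearEquiv.ext fun v => by
        rw [scalarGL_apply, Units.val_neg, Units.val_one]; exact hk v)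
      rw [e]; exact hm1
  -- lifted pairs of transvections
  have hpair : ∀ a b (ha : One Φ a) (hb : One Φ b), ∃ T : ↥(isoGL β),
      ∀ v, toV _ F T.1 v = (2 : F)⁻¹ • (tE ha * tE hb) v := by
    intro a b ha hb
    obtain ⟨T, hT⟩ := toV_surjective (ι := Fin 2 ⊕ Fin 2) (F := F)
      (LinearEquiv.smulOfUnit (Units.mk0 (2 : F)⁻¹ (inv_ne_zero Φ.two)) * (tE ha * tE hb))
    have hTv : ∀ v, toV _ F T v = (2 : F)⁻¹ • (tE ha * tE hb) v := fun v => by rw [hT]; rfl
    have hsim : ∀ r (hr : One Φ r) v w, β.B (tE hr v) (tE hr w) = 2 * β.B v w := fun r hr v w => by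
      have e : β.B (Φ.u r v) w = -β.B v (Φ.u r w) := by
        rw [← hS.isom r v (Φ.u r w), hr, β.neg_right, neg_neg]
      rw [tE_apply, tE_apply, β.add_left, β.add_right, β.add_right, hS.isom, e]
      ring
    refine ⟨⟨T, fun v w => ?_⟩, hTv⟩
    rw [hTv, hTv, LinearEquiv.mul_apply, LinearEquiv.mul_apply, β.smul_left, β.smul_right, hsim, hsim]
    field_simp [Φ.two]
  refine ⟨lt_of_le_not_ge inf_le_right fun hle => ?_, fun M hle hM => ?_⟩
  · -- a transvection does not normalise
    obtain ⟨a, ha⟩ := Φ.exists_ne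
    have halt : β.B a a = 0 := hsf.alternating a
    obtain ⟨T, hT, hTv⟩ := exists_sp_transvection (m := 2) a (1 : F)
    rw [hSeq] at hT
    have hTN : T ∈ subgroupNormalizer R := (hle hT).1
    have e0 : toV _ F T = tr (β := β) a halt 1 := LinearEquiv.ext fun x => by rw [toV_apply, hTv, tr_apply]
    obtain ⟨x, hx⟩ := (hsf.nondegenerate a ha).1
    let g : ↥(isoGL β) := ⟨T, hT⟩
    -- normalising elements act monomially
    have hm : B.Mono (rho h g) := by
      intro i
      obtain ⟨b, c, hb⟩ := hcov _ ((Subgroup.mem_normalizer_iff.mp hTN (r (f i) : GL _ F)).mp (r (f i)).2)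
      have e : ∀ v, toV _ F T (Φ.u (f i) v) = c • Φ.u b (toV _ F T v) := fun v => by
        rw [← hb, heq, ← LinearEquiv.mul_apply, ← LinearEquiv.mul_apply, ← map_mul, ← map_mul, inv_mul_cancel_right]
      obtain ⟨hc, hdd⟩ := conj_dd hS ⟨1, one_ne_zero, fun v w => by rw [one_mul]; exact hT v w⟩ e
      obtain ⟨j, rfl⟩ : ∃ j, b = f j := by
        refine (h.all b (hdd ▸ (h.ne i).2)).resolve_left fun e' => ?_
        subst e'
        obtain ⟨s, hs, hu⟩ := Φ.u_zero
        obtain ⟨v0, hv0⟩ := Φ.exists_ne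
        refine (h.ne i).1 (Φ.index_unique (a := f i) (b := 0) one_ne_zero (c := 1) (d := c) fun v => ?_).1
        refine (toV _ F T).injective ?_
        rw [one_smul, e, map_smul, hu, hu, map_smul]
      refine ⟨j, ?_⟩
      rw [img g i j c e]
      rcases hc with rfl | rfl
      · exact Or.inl (one_smul F _)
      · exact Or.inr (neg_one_smul F _)
    -- the action of a transvection has no second difference
    have key : ∀ c : Fin 5 → F, (rho h g).1 c + ((rho h g)⁻¹).1 c = c + c := by
      intro c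
      refine emb_injective h (LinearMap.ext fun v => ?_)
      have hX : ∀ v, β.B (emb Φ f c v) v = 0 := fun v => by
        have e := emb_selfadj h c v v
        rw [β.swap (emb Φ f c v) v] at e
        exact (mul_eq_zero.mp (show (2 : F) * β.B (emb Φ f c v) v = 0 by linear_combination e)).resolve_left h2
      have hspec : ∀ (g : ↥(isoGL β)) v, emb Φ f ((rho h g).1 c) (toV _ F g.1 v) = toV _ F g.1 (emb Φ f c v) :=
        fun g v => (rho_apply h g c v).symm
      have hinv : ∀ v, toV _ F (g⁻¹).1 v = v + (-1 * β.B v a) • a := fun v => by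
        rw [Subgroup.coe_inv, map_inv]
        show (toV _ F T).symm v = _
        rw [e0, LinearEquiv.symm_apply_eq, tr_apply, β.add_left, β.smul_left, halt]
        module
      have h1 := hspec g (toV _ F (g⁻¹).1 v)
      rw [show toV _ F g.1 (toV _ F (g⁻¹).1 v) = v by
        rw [← LinearEquiv.mul_apply, ← map_mul, ← Subgroup.coe_mul, mul_inv_cancel, OneMemClass.coe_one, map_one]; rfl,
        show g.1 = T from rfl, e0, tr_apply, hinv] at h1
      have h2' := hspec g⁻¹ (toV _ F g.1 v)
      rw [show toV _ F (g⁻¹).1 (toV _ F g.1 v) = v by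
        rw [← LinearEquiv.mul_apply, ← map_mul, ← Subgroup.coe_mul, inv_mul_cancel, OneMemClass.coe_one, map_one]; rfl,
        map_inv, hinv, show g.1 = T from rfl, e0, tr_apply] at h2'
      simp only [map_add, map_smul, β.add_left, β.smul_left, hX a] at h1 h2'
      simp only [map_add, LinearMap.add_apply]
      linear_combination (norm := module) h1 + h2'
    have hone : rho h g = 1 := by
      refine B.iso_ext fun i => ?_
      show (rho h g).1 (B.bas i) = B.bas i
      have ax : ∀ v, B.IsAx v → ∃ (s : F) (j : Fin 5), (s = 1 ∨ s = -1) ∧ v = s • B.bas j := fun v hv => by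
        obtain ⟨j, e | e⟩ := hv
        · exact ⟨1, j, Or.inl rfl, by rw [e, one_smul]⟩
        · exact ⟨-1, j, Or.inr rfl, by rw [e, neg_one_smul]⟩
      obtain ⟨s, j, hs, hj⟩ := ax _ (hm i)
      obtain ⟨t, l, ht, hl⟩ := ax _ ((Frame.Mono.inv B hm) i)
      have hco : ∀ m, s * (if j = m then 1 else 0) + t * (if l = m then 1 else 0) =
          (if i = m then (1 : F) else 0) + (if i = m then (1 : F) else 0) := fun m => by
        have := congrArg (fun c => B.co c m) (key (B.bas i))
        simpa only [hj, hl, B.co_add, B.co_smul, B.co_bas] using this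
      have hs0 : s ≠ 0 := by rcases hs with rfl | rfl <;> simp
      have ht0 : t ≠ 0 := by rcases ht with rfl | rfl <;> simp
      by_cases hij : i = j
      · subst hij
        rcases hs with rfl | rfl
        · rw [hj, one_smul]
        exfalso
        have e := hco i
        rw [if_pos rfl] at e
        by_cases hli : l = i
        · rw [if_pos hli] at e
          rcases ht with rfl | rfl
          · exact h2 (by linear_combination -e)
          · exact pow_ne_zero 2 h2 (by linear_combination -e)
        · have e' := hco l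
          rw [if_neg (Ne.symm hli), if_pos rfl, mul_zero, mul_one, zero_add, add_zero] at e'
          exact ht0 e'
      · exfalso
        have e := hco j
        rw [if_pos rfl, if_neg hij] at e
        by_cases hlj : l = j
        · have e' := hco i
          rw [if_neg (Ne.symm hij), if_neg (hlj ▸ Ne.symm hij), if_pos rfl] at e'
          exact h2 (by linear_combination -e')
        · rw [if_neg hlj] at e
          exact hs0 (by linear_combination e)
    have hTR := hker g hone
    -- but elements of the group square to scalars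
    obtain ⟨b, c, hb⟩ := hcov T hTR
    have hsq : ∀ v, toV _ F T (toV _ F T v) = (c * c * dd Φ b) • v := fun v => by
      rw [hb, hb, map_smul, sq_eq hS, smul_smul, smul_smul, mul_assoc]
    have e1 := hsq a
    have e2 := hsq x
    simp only [e0, tr_apply, halt, mul_zero, zero_smul, add_zero] at e1
    have hl : c * c * dd Φ b = 1 := smul_left_injective F ha (show _ • a = (1 : F) • a by rw [one_smul, ← e1])
    rw [hl, one_smul, e0, tr_apply, tr_apply, β.add_left, β.smul_left, halt] at e2
    have : (2 * β.B x a) • a = 0 := by linear_combination (norm := module) e2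
    exact mul_ne_zero h2 hx ((smul_eq_zero.mp this).resolve_right ha)
  -- the image of an overgroup
  let H : Subgroup ↥(Iso (qq (F := F))) := (M.subgroupOf (isoGL β)).map (rho h)
  have hN : ∀ g : ↥(isoGL β), g.1 ∈ subgroupNormalizer R → rho h g ∈ H := fun g hg =>
    ⟨g, hle ⟨hg, g.2⟩, rfl⟩
  have hfd : finrank F (Fin 5 → F) = 5 := by simp
  have hder : ∀ g : ↥(isoGL β), rho h g ∈ commutator ↥(Iso (qq (F := F))) := by
    rintro ⟨g, hg⟩
    have hg' : g ∈ Cfsg.spGL 2 F := hSeq ▸ hg
    let K : Subgroup (GL (Fin 2 ⊕ Fin 2) F) :=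
      ((commutator ↥(Iso (qq (F := F)))).comap (rho h)).map (isoGL β).subtype
    suffices hK : Cfsg.spGL 2 F ≤ K by
      obtain ⟨g', hg'', e⟩ := hK hg'
      obtain rfl : g' = ⟨g, hg⟩ := Subtype.ext e
      exact hg''
    refine SpOver.spGL_le fun v c t ht => ?_
    obtain ⟨t', ht', ht'v⟩ := exists_sp_transvection (m := 2) v c
    obtain rfl := SpOver.tv_unique ht ht'v
    rw [hSeq] at ht'
    refine ⟨⟨t, ht'⟩, ?_, rfl⟩
    show rho h ⟨t, ht'⟩ ∈ commutator _
    have hpow : ∀ n : ℕ, ∀ x, toV _ F (t ^ n) x = x + ((n : F) * (c * Cfsg.sympForm 2 F x v)) • v := by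
      intro n
      induction n with
      | zero => intro x; simp
      | succ n ih =>
        intro x
        rw [pow_succ, map_mul, LinearEquiv.mul_apply, toV_apply t x, ht, ih, hsf.bilinear.add_left,
          hsf.bilinear.smul_left, hsf.alternating]
        push_cast
        module
    have hord : (⟨t, ht'⟩ : ↥(isoGL β)) ^ Fintype.card F = 1 := Subtype.ext (toV_injective (LinearEquiv.ext fun x => by
      show toV _ F (t ^ Fintype.card F) x = toV _ F 1 x
      rw [hpow, FiniteField.cast_card_eq_zero, zero_mul, zero_smul, add_zero, map_one]; rfl))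
    rw [commutator_eq h2 (qq_pnd h2) (by omega), MonoidHom.mem_ker]
    have e := congrArg ((both (qq (F := F)) h2 (qq_pnd h2)).comp (rho h)) hord
    rw [map_one, map_pow] at e
    have hu : ∀ y : ℤˣ × ℤˣ, ∀ n, Odd n → y ^ n = 1 → y = 1 := fun y n hn hy => by
      obtain ⟨k, rfl⟩ := hn
      have h2 : y ^ 2 = 1 := by
        refine Prod.ext ?_ ?_ <;> simp [Int.units_sq]
      rwa [pow_succ, pow_mul, h2, one_pow, one_mul] at hy
    exact hu _ _ hodd e
  have hH : H ≤ commutator ↥(Iso (qq (F := F))) := by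
    rintro _ ⟨g, -, rfl⟩
    exact hder g
  have hflip : ∀ k l, k ≠ l → B.sg k * B.sg l ∈ H := by
    intro k l hkl
    let g : ↥(isoGL β) := ⟨r (f k + f l), hRD (r (f k + f l)).2⟩
    have e : rho h g = B.sg k * B.sg l := B.iso_ext fun i => by
      rw [← Frame.flip_pair B hkl, B.flip_bas]
      rw [img g i i (Φ.sg (f k + f l) (f i)) fun v => by rw [← heq, Φ.comm]]
      rw [Φ.sg_add_left]
      by_cases hik : i = k
      · subst hik; simp [Φ.sg_self, h.anti l i hkl.symm]
      · by_cases hil : i = l
        · subst hil; simp [Φ.sg_self, h.anti k i hkl]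
        · simp [hik, hil, h.anti k i (Ne.symm hik), h.anti l i (Ne.symm hil)]
    exact e ▸ hN g (Subgroup.le_normalizer (r (f k + f l)).2)
  have hAlt : HasAlt B H := by
    let K : Subgroup (Equiv.Perm (Fin 5)) :=
      { carrier := {σ | ∃ g ∈ H, B.IsPerm σ g}
        one_mem' := ⟨1, one_mem H, fun i => rfl⟩
        mul_mem' := fun {σ τ} ⟨g, hg, hgσ⟩ ⟨k, hk, hkτ⟩ => ⟨g * k, mul_mem hg hk, hgσ.mul B hkτ⟩
        inv_mem' := fun {σ} ⟨g, hg, hgσ⟩ => ⟨g⁻¹, inv_mem hg, fun i => by
          have e := hgσ (σ⁻¹ i)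
          rw [show σ (σ⁻¹ i) = i from σ.apply_symm_apply i] at e
          rw [← e]
          exact g.1.symm_apply_apply _⟩ }
    suffices hK : alternatingGroup (Fin 5) ≤ K from fun σ hσ => hK hσ
    rw [← Equiv.Perm.closure_three_cycles_eq_alternating, Subgroup.closure_le]
    intro σ hσ
    obtain ⟨i, hi⟩ : σ.support.Nonempty := Finset.card_pos.mp (by rw [hσ.card_support]; norm_num)
    have hnd := hσ.nodup_iff_mem_support.mpr hi
    rw [show σ = _ from hσ.eq_swap_mul_swap_iff_mem_support.mpr hi]
    simp only [List.nodup_cons, List.mem_cons, List.not_mem_nil, or_false, not_or] at hnd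
    obtain ⟨⟨hij, hik⟩, hjk, -, -⟩ := hnd
    generalize σ i = j at hij hik hjk
    generalize σ j = k at hik hjk
    replace hij : i ≠ j := hij
    replace hik : i ≠ k := hik
    replace hjk : j ≠ k := hjk
    show ∃ g ∈ H, B.IsPerm _ g
    have hone : ∀ a b, a ≠ b → One Φ (f a + f b) := fun a b hab =>
      one_add_anti hS (h.anti a b hab) ((h.ne a).2.trans (h.ne b).2.symm)
    obtain ⟨s, hs, p1, p2, p3⟩ := rotate h hij (hone i j hij)
    obtain ⟨t, ht, q1, q2, q3⟩ := rotate h hjk (hone j k hjk)
    obtain ⟨T, hT⟩ := hpair _ _ (hone i j hij) (hone j k hjk)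
    have gT : ∀ a b z, (∀ v, (tE (hone i j hij) * tE (hone j k hjk)) (Φ.u (f a) v) =
        z • Φ.u (f b) ((tE (hone i j hij) * tE (hone j k hjk)) v)) → (rho h T).1 (B.bas a) = z • B.bas b :=
      fun a b z e => img T a b z fun v => by rw [hT, hT, e, map_smul, smul_comm]
    have gi : (rho h T).1 (B.bas i) = s • B.bas j := gT i j s fun v => by
      rw [LinearEquiv.mul_apply, LinearEquiv.mul_apply, q3 i hij hik, p1]
    have gj : (rho h T).1 (B.bas j) = t • B.bas k := gT j k t fun v => by
      rw [LinearEquiv.mul_apply, LinearEquiv.mul_apply, q1, map_smul, p3 k hik.symm hjk.symm]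
    have gk : (rho h T).1 (B.bas k) = (s * t) • B.bas i := gT k i (s * t) fun v => by
      rw [LinearEquiv.mul_apply, LinearEquiv.mul_apply, q2, map_smul, p2, smul_smul, neg_mul_neg, mul_comm]
    have gl : ∀ l, l ≠ i → l ≠ j → l ≠ k → (rho h T).1 (B.bas l) = B.bas l := fun l hli hlj hlk => by
      rw [gT l l 1 fun v => ?_, one_smul]
      rw [one_smul, LinearEquiv.mul_apply, LinearEquiv.mul_apply, q3 l hlj hlk, p3 l hli hlj]
    have hTH : rho h T ∈ H := hN T (hmono T fun a => by
      have ax : ∀ (z : F) b, z = 1 ∨ z = -1 → B.IsAx (z • B.bas b) := fun z b hz => by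
        rcases hz with rfl | rfl
        · exact ⟨b, Or.inl (one_smul F _)⟩
        · exact ⟨b, Or.inr (neg_one_smul F _)⟩
      have hst : s * t = 1 ∨ s * t = -1 := by rcases hs with rfl | rfl <;> rcases ht with rfl | rfl <;> simp
      by_cases hai : a = i
      · subst hai; rw [gi]; exact ax _ _ hs
      by_cases haj : a = j
      · subst haj; rw [gj]; exact ax _ _ ht
      by_cases hak : a = k
      · subst hak; rw [gk]; exact ax _ _ hst
      rw [gl a hai haj hak]; exact B.isAx_bas a)
    obtain ⟨D, hDdef⟩ : ∃ D : Finset (Fin 5), D = Finset.univ.filter fun a =>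
        (a = j ∧ s = -1) ∨ (a = k ∧ t = -1) ∨ (a = i ∧ s * t = -1) := ⟨_, rfl⟩
    have hD : B.flip D ∈ H := by
      have cases4 : D = ∅ ∨ D = {k, i} ∨ D = {j, i} ∨ D = {j, k} := by
        rcases hs with rfl | rfl <;> rcases ht with rfl | rfl
        · left; subst hDdef; ext a; simp [Φ.one_ne_neg]
        · right; left; subst hDdef; ext a; simp [Φ.one_ne_neg]
        · right; right; left; subst hDdef; ext a; simp [Φ.one_ne_neg]
        · right; right; right; subst hDdef; ext a; simp [Φ.one_ne_neg]
      rcases cases4 with e | e | e | e <;> rw [e]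
      · rw [B.flip_empty]; exact one_mem H
      · rw [Frame.flip_pair B hik.symm]; exact hflip k i hik.symm
      · rw [Frame.flip_pair B hij.symm]; exact hflip j i hij.symm
      · rw [Frame.flip_pair B hjk]; exact hflip j k hjk
    refine ⟨B.flip D * rho h T, mul_mem hD hTH, fun a => ?_⟩
    show (B.flip D).1 ((rho h T).1 (B.bas a)) = _
    have sm : ∀ (z : F) b, z = 1 ∨ z = -1 → (b ∈ D ↔ z = -1) → (B.flip D).1 (z • B.bas b) = B.bas b := by
      intro z b hz hb
      rw [map_smul, B.flip_bas]
      rcases hz with rfl | rfl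
      · rw [if_neg fun e => Φ.one_ne_neg (hb.mp e), one_smul]
      · rw [if_pos (hb.mpr rfl), neg_one_smul, neg_neg]
    have hst : s * t = 1 ∨ s * t = -1 := by rcases hs with rfl | rfl <;> rcases ht with rfl | rfl <;> simp
    have hmem : ∀ b, b ∈ D ↔ ((b = j ∧ s = -1) ∨ (b = k ∧ t = -1) ∨ (b = i ∧ s * t = -1)) := fun b => by
      simp [hDdef]
    rw [Equiv.Perm.mul_apply]
    by_cases hai : a = i
    · subst hai
      rw [gi, sm s j hs (by rw [hmem]; simp [hjk, hij.symm]), Equiv.swap_apply_of_ne_of_ne hij hik,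
        Equiv.swap_apply_left]
    by_cases haj : a = j
    · subst haj
      rw [gj, sm t k ht (by rw [hmem]; simp [hjk.symm, hik.symm]), Equiv.swap_apply_left,
        Equiv.swap_apply_of_ne_of_ne hik.symm hjk.symm]
    by_cases hak : a = k
    · subst hak
      rw [gk, sm (s * t) i hst (by rw [hmem]; simp [hij, hik]), Equiv.swap_apply_right, Equiv.swap_apply_right]
    rw [gl a hai haj hak, B.flip_bas, if_neg (by rw [hmem]; simp [hai, haj, hak]),
      Equiv.swap_apply_of_ne_of_ne haj hak, Equiv.swap_apply_of_ne_of_ne hai haj]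
  have hp' : (Nat.card F).Prime := by rw [Nat.card_eq_fintype_card, hF]; exact hp
  rcases Frame.mono_or_ge_five B hp' rfl hH hflip hAlt with hmo | hge
  · left
    refine le_antisymm (fun g hg => ?_) hle
    exact ⟨hmono ⟨g, hM hg⟩ (hmo _ ⟨⟨g, hM hg⟩, hg, rfl⟩), hM hg⟩
  · right
    refine le_antisymm hM fun g hg => ?_
    obtain ⟨g', hg', e⟩ := hge (hder ⟨g, hg⟩)
    have hk := hker (g'⁻¹ * ⟨g, hg⟩) (by rw [map_mul, map_inv, e, inv_mul_cancel])
    have hk' : g'.1⁻¹ * g ∈ M := hle ⟨Subgroup.le_normalizer hk, hRD hk⟩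
    have := M.mul_mem (Subgroup.mem_subgroupOf.mp hg') hk'
    rwa [mul_inv_cancel_left] at this

end Klein

end Cfsg.Agent.Classical.SpFourOdd
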