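/-
Products of symplectic transvections in dimension four: when two one-parameter groups of products of two commuting
transvections with a common centre generate all transvections of that centre.
-/
import Cfsg.Agent.Lib.Classical.SpOvergroup

set_option autoImplicit false
set_option linter.unusedSectionVars false
set_option linter.style.haveILetI false

namespace Cfsg.Agent.Classical.SpFourOdd

open Matrix Cfsg.Geo
open Cfsg.Agent.Classical

variable {F : Type*} [Field F] [Fintype F]

local notation "ιS" => Fin 2 ⊕ Fin 2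
local notation "Vs" => Fin 2 ⊕ Fin 2 → F
local notation "Gs" => GL (Fin 2 ⊕ Fin 2) F
local notation "fS" => Cfsg.sympForm 2 F

theorem symp : IsSymplecticForm fS := sympForm_isSymplectic

theorem f_add_left (a b x : Vs) : fS (a + b) x = fS a x + fS b x := symp.bilinear.add_left a b x
theorem f_add_right (a b x : Vs) : fS x (a + b) = fS x a + fS x b := symp.bilinear.add_right x a b
theorem f_smul_left (c : F) (a x : Vs) : fS (c • a) x = c * fS a x := symp.bilinear.smul_left c a x
theorem f_smul_right (c : F) (a x : Vs) : fS x (c • a) = c * fS x a := symp.bilinear.smul_right c x a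
theorem f_self (a : Vs) : fS a a = 0 := symp.alternating a
theorem f_skew (a b : Vs) : fS a b = -fS b a := symp.skew a b
theorem f_zero_left (x : Vs) : fS 0 x = 0 := by rw [← zero_smul F (0 : Vs), f_smul_left, zero_mul]
theorem f_zero_right (x : Vs) : fS x 0 = 0 := by rw [← zero_smul F (0 : Vs), f_smul_right, zero_mul]
theorem f_neg_left (a x : Vs) : fS (-a) x = -fS a x := by rw [← neg_one_smul F a, f_smul_left]; ring
theorem f_neg_right (a x : Vs) : fS x (-a) = -fS x a := by rw [← neg_one_smul F a, f_smul_right]; ring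
theorem f_sub_left (a b x : Vs) : fS (a - b) x = fS a x - fS b x := by
  rw [sub_eq_add_neg, f_add_left, f_neg_left]; ring
theorem f_sub_right (a b x : Vs) : fS x (a - b) = fS x a - fS x b := by
  rw [sub_eq_add_neg, f_add_right, f_neg_right]; ring

theorem f_nd {v : Vs} (h : ∀ x, fS x v = 0) : v = 0 := by
  by_contra hv
  obtain ⟨⟨x, hx⟩, -⟩ := symp.nondegenerate v hv
  exact hx (h x)

theorem iso_of {g : Gs} (hg : g ∈ spGL 2 F) (x y : Vs) :
    fS ((g : Matrix ιS ιS F) *ᵥ x) ((g : Matrix ιS ιS F) *ᵥ y) = fS x y := hg x y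

/-- The transvection with centre `v` and parameter `c`. -/
noncomputable def T (v : Vs) (c : F) : Gs := (exists_sp_transvection v c).choose

theorem T_mem (v : Vs) (c : F) : T v c ∈ spGL 2 F := (exists_sp_transvection v c).choose_spec.1

theorem T_apply (v : Vs) (c : F) (x : Vs) :
    (T v c : Matrix ιS ιS F) *ᵥ x = x + (c * fS x v) • v := (exists_sp_transvection v c).choose_spec.2 x

theorem T_eq {g : Gs} {v : Vs} {c : F} (h : ∀ x, (g : Matrix ιS ιS F) *ᵥ x = x + (c * fS x v) • v) : g = T v c :=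
  gl_ext_mulVec fun x => by rw [h, T_apply]

theorem T_add (v : Vs) (a b : F) : T v a * T v b = T v (a + b) := T_eq fun x => by
  rw [gl_mul_mulVec, T_apply, T_apply, f_add_left, f_smul_left, f_self, mul_zero, add_zero]
  module

theorem T_zero (v : Vs) : T v (0 : F) = 1 := gl_ext_mulVec fun x => by
  rw [T_apply, zero_mul, zero_smul, add_zero, Units.val_one, Matrix.one_mulVec]

theorem T_neg (v : Vs) (c : F) : T v (-c) = (T v c)⁻¹ :=
  eq_inv_of_mul_eq_one_left (by rw [T_add, neg_add_cancel, T_zero])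

theorem T_smul (v : Vs) (s c : F) : T (s • v) c = T v (c * s * s) := T_eq fun x => by
  rw [T_apply, f_smul_right, smul_smul]
  congr 2
  ring

theorem T_conj {g : Gs} (hg : g ∈ spGL 2 F) (v : Vs) (c : F) :
    g * T v c * g⁻¹ = T ((g : Matrix ιS ιS F) *ᵥ v) c := T_eq (SpOver.tv_conj hg (T_apply v c))

theorem T_comm {v w : Vs} (h : fS v w = 0) (a b : F) : Commute (T v a) (T w b) := gl_ext_mulVec fun x => by
  have h' : fS w v = 0 := by rw [f_skew, h, neg_zero]
  rw [gl_mul_mulVec, gl_mul_mulVec, T_apply, T_apply, T_apply, T_apply, f_add_left, f_add_left, f_smul_left,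
    f_smul_left, h, h', mul_zero, mul_zero, add_zero, add_zero]
  abel

/-- The element of the group of the plane spanned by `w` and `y`: `x ↦ x + f(x, w) y + f(x, y) w`. -/
noncomputable def E (w y : Vs) : Gs := T (w + y) 2⁻¹ * T (w - y) (-2⁻¹)

theorem E_apply (h2 : (2 : F) ≠ 0) {w y : Vs} (h : fS w y = 0) (x : Vs) :
    (E w y : Matrix ιS ιS F) *ᵥ x = x + fS x w • y + fS x y • w := by
  have h' : fS y w = 0 := by rw [f_skew, h, neg_zero]
  rw [E, gl_mul_mulVec, T_apply, T_apply]
  simp only [f_add_left, f_add_right, f_sub_left, f_sub_right, f_smul_left, f_self, h, h']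
  match_scalars <;> field_simp <;> ring

theorem E_eq (h2 : (2 : F) ≠ 0) {w y : Vs} (h : fS w y = 0) {g : Gs}
    (hg : ∀ x, (g : Matrix ιS ιS F) *ᵥ x = x + fS x w • y + fS x y • w) : g = E w y :=
  gl_ext_mulVec fun x => by rw [hg, E_apply h2 h]

theorem E_conj (h2 : (2 : F) ≠ 0) {g : Gs} (hg : g ∈ spGL 2 F) {w y : Vs} :
    g * E w y * g⁻¹ = E ((g : Matrix ιS ιS F) *ᵥ w) ((g : Matrix ιS ιS F) *ᵥ y) := by
  rw [E, E, ← Matrix.mulVec_add, ← Matrix.mulVec_sub, ← T_conj hg, ← T_conj hg]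
  group

theorem E_mul (h2 : (2 : F) ≠ 0) {w y y' : Vs} (h : fS w y = 0) (h' : fS w y' = 0) :
    E w y * E w y' = E w (y + y') * T w (fS y' y) := gl_ext_mulVec fun x => by
  have e : fS w (y + y') = 0 := by rw [f_add_right, h, h', add_zero]
  have e1 : fS y' w = 0 := by rw [f_skew, h', neg_zero]
  have e2 : fS y w = 0 := by rw [f_skew, h, neg_zero]
  rw [gl_mul_mulVec, gl_mul_mulVec, E_apply h2 h, E_apply h2 h', E_apply h2 e, T_apply]
  simp only [f_add_left, f_add_right, f_smul_left, f_self, e1, h, h']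
  module

theorem E_commutator (h2 : (2 : F) ≠ 0) {w y y' : Vs} (h : fS w y = 0) (h' : fS w y' = 0) :
    E w y * E w y' * (E w y' * E w y)⁻¹ = T w (2 * fS y' y) := by
  rw [E_mul h2 h h', E_mul h2 h' h, _root_.mul_inv_rev, ← T_neg, add_comm y' y, mul_assoc, ← mul_assoc (T w _),
    T_add, ← mul_assoc]
  rw [f_skew y y', neg_neg, ← two_mul]
  refine gl_ext_mulVec fun x => ?_
  have e : fS w (y + y') = 0 := by rw [f_add_right, h, h', add_zero]
  rw [gl_mul_mulVec, gl_mul_mulVec, T_apply, T_apply]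
  have hi : ∀ z, (((E w (y + y'))⁻¹ : Gs) : Matrix ιS ιS F) *ᵥ z = z - fS z w • (y + y') - fS z (y + y') • w :=
    fun z => gl_mulVec_injective (E w (y + y')) (by
      simp only []
      rw [gl_mulVec_inv_cancel, E_apply h2 e]
      have e' : fS (y + y') w = 0 := by rw [f_skew, e, neg_zero]
      simp only [f_sub_left, f_smul_left, f_self, e, e']
      module)
  rw [hi]
  have e' : fS (y + y') w = 0 := by rw [f_skew, e, neg_zero]
  rw [E_apply h2 e]
  simp only [f_add_left, f_sub_left, f_smul_left, f_self, e, e']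
  module

variable {K : Subgroup (GL (Fin 2 ⊕ Fin 2) F)}

/-- All transvections with centre `w` lie in `K`. -/
def Full (K : Subgroup (GL (Fin 2 ⊕ Fin 2) F)) (w : Fin 2 ⊕ Fin 2 → F) : Prop := ∀ c : F, T w c ∈ K

theorem full_of_scaled {w : Vs} {k : F} (hk : k ≠ 0) (h : ∀ c : F, T w (c * k) ∈ K) : Full K w := fun c => by
  have := h (c * k⁻¹)
  rwa [mul_assoc, inv_mul_cancel₀ hk, mul_one] at this

/-- Two degenerate groups. -/
theorem full_dd (h2 : (2 : F) ≠ 0) {w z z' : Vs} (hz : fS w z = 0) (hz' : fS w z' = 0) (hne : fS z' z ≠ 0)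
    (hP : ∀ c : F, E w (c • z) ∈ K) (hP' : ∀ c : F, E w (c • z') ∈ K) : Full K w := by
  refine full_of_scaled (k := 2 * fS z' z) (mul_ne_zero h2 hne) fun c => ?_
  have e1 : fS w (c • z) = 0 := by rw [f_smul_right, hz, mul_zero]
  have e2 : fS w ((1 : F) • z') = 0 := by rw [f_smul_right, hz', mul_zero]
  have := mul_mem (mul_mem (hP c) (hP' 1)) (inv_mem (mul_mem (hP' 1) (hP c)))
  rw [E_commutator h2 e1 e2] at this
  convert this using 2
  rw [one_smul, f_smul_right]
  ring

/-- A degenerate group and a generic one. -/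
theorem full_dg (h2 : (2 : F) ≠ 0) (hK : K ≤ spGL 2 F) {w z h : Vs} (hz : fS w z = 0) (hh : fS w h = 0)
    (hne : fS z h ≠ 0) {t b : F} (hb : b ≠ 0)
    (hP : ∀ c : F, E w (c • z) ∈ K) (hg : T w t * T h b ∈ K) : Full K w := by
  have hzw : fS z w = 0 := by rw [f_skew, hz, neg_zero]
  have hhw : fS h w = 0 := by rw [f_skew, hh, neg_zero]
  obtain ⟨g, hgd⟩ : ∃ g, g = T w t * T h b := ⟨_, rfl⟩
  have hw : (g : Matrix ιS ιS F) *ᵥ w = w := by
    rw [hgd, gl_mul_mulVec, T_apply h, hh, mul_zero, zero_smul, add_zero, T_apply, f_self, mul_zero, zero_smul,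
      add_zero]
  have hgz : (g : Matrix ιS ιS F) *ᵥ z = z + (b * fS z h) • h := by
    rw [hgd, gl_mul_mulVec, T_apply h, T_apply, f_add_left, f_smul_left, hzw, hhw, mul_zero, add_zero, mul_zero,
      zero_smul, add_zero]
  refine full_dd h2 hz (z' := (g : Matrix ιS ιS F) *ᵥ z) ?_ ?_ hP fun c => ?_
  · rw [hgz, f_add_right, f_smul_right, hz, hh, mul_zero, add_zero]
  · rw [hgz, f_add_left, f_smul_left, f_self, zero_add, f_skew h z, mul_neg, neg_ne_zero]
    exact mul_ne_zero (mul_ne_zero hb hne) hne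
  · have hgK : g ∈ K := hgd ▸ hg
    have := mul_mem (mul_mem hgK (hP c)) (inv_mem hgK)
    rwa [E_conj h2 (hK hgK), hw, Matrix.mulVec_smul] at this

/-- A product of two transvections of a hyperbolic pair acting as a fourth root of the identity. -/
theorem weyl_four {e h : Vs} {κ a b : F} (hκ : fS e h = κ) (hab : a * b * κ ^ 2 = 1) :
    (T e a * T h b * T e a) ^ 4 = 1 := by
  have hκ' : fS h e = -κ := by rw [f_skew, hκ]
  obtain ⟨W, hW⟩ : ∃ W, W = T e a * T h b * T e a := ⟨_, rfl⟩
  have hWe : (W : Matrix ιS ιS F) *ᵥ e = (b * κ) • h := by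
    rw [hW, gl_mul_mulVec, gl_mul_mulVec, T_apply, T_apply, T_apply]
    simp only [f_add_left, f_smul_left, f_self, hκ, hκ']
    match_scalars
    · linear_combination -hab
    · ring
  have hWh : (W : Matrix ιS ιS F) *ᵥ h = -(a * κ) • e := by
    rw [hW, gl_mul_mulVec, gl_mul_mulVec, T_apply, T_apply, T_apply]
    simp only [f_add_left, f_smul_left, f_self, hκ, hκ']
    match_scalars
    · linear_combination -hab
    · linear_combination (a * κ) * hab
  have hWz : ∀ z, fS z e = 0 → fS z h = 0 → (W : Matrix ιS ιS F) *ᵥ z = z := fun z h1 h3 => by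
    rw [hW, gl_mul_mulVec, gl_mul_mulVec, T_apply e a z, h1, mul_zero, zero_smul, add_zero, T_apply h b z, h3,
      mul_zero, zero_smul, add_zero, T_apply e a z, h1, mul_zero, zero_smul, add_zero]
  have hκ0 : κ ≠ 0 := fun e => by rw [e] at hab; simp at hab
  refine hW ▸ gl_ext_mulVec fun x => ?_
  obtain ⟨z, hz⟩ : ∃ z, z = x - (fS x h * κ⁻¹) • e + (fS x e * κ⁻¹) • h := ⟨_, rfl⟩
  have hx : x = z + (fS x h * κ⁻¹) • e + (-(fS x e * κ⁻¹)) • h := by rw [hz]; module
  have hz1 : fS z e = 0 := by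
    rw [hz, f_add_left, f_sub_left, f_smul_left, f_smul_left, f_self, hκ']; field_simp; ring
  have hz2 : fS z h = 0 := by
    rw [hz, f_add_left, f_sub_left, f_smul_left, f_smul_left, f_self, hκ]; field_simp; ring
  have h4 : W ^ 4 = W * (W * (W * W)) := by simp only [pow_succ, pow_zero, one_mul, mul_assoc]
  obtain ⟨p, hp⟩ : ∃ p, p = fS x h * κ⁻¹ := ⟨_, rfl⟩
  obtain ⟨r, hr⟩ : ∃ r, r = -(fS x e * κ⁻¹) := ⟨_, rfl⟩
  rw [← hr, ← hp] at hx
  rw [h4, Units.val_one, Matrix.one_mulVec, gl_mul_mulVec, gl_mul_mulVec, gl_mul_mulVec, hx]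
  simp only [Matrix.mulVec_add, Matrix.mulVec_smul, hWe, hWh, hWz z hz1 hz2, smul_smul]
  match_scalars
  · ring
  · linear_combination p * (a * b * κ ^ 2 + 1) * hab
  · linear_combination r * (a * b * κ ^ 2 + 1) * hab

/-- In fields of more than four elements, the obstruction is not additive. -/
theorem exists_nonadd (h2 : (2 : F) ≠ 0) (h5 : 5 ≤ Fintype.card F) :
    ∃ k : F, k ≠ 0 ∧ 1 + k ≠ 0 ∧ 1 + k⁻¹ - (1 + k)⁻¹ ≠ 0 := by
  classical
  suffices ∃ k : F, k ≠ 0 ∧ 1 + k ≠ 0 ∧ k * k + k + 1 ≠ 0 by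
    obtain ⟨k, hk, hk1, hk2⟩ := this
    refine ⟨k, hk, hk1, ?_⟩
    rw [show 1 + k⁻¹ - (1 + k)⁻¹ = (k * k + k + 1) / (k * (1 + k)) by field_simp; ring]
    exact div_ne_zero hk2 (mul_ne_zero hk hk1)
  by_cases h3 : (3 : F) = 0
  · obtain ⟨k, -, hk⟩ := Finset.exists_mem_notMem_of_card_lt_card (s := ({0, 1, -1} : Finset F)) (t := Finset.univ)
      (lt_of_le_of_lt Finset.card_le_three (by rw [Finset.card_univ]; omega))
    simp only [Finset.mem_insert, Finset.mem_singleton, not_or] at hk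
    refine ⟨k, hk.1, fun e => hk.2.2 (by linear_combination e), ?_⟩
    rw [show k * k + k + 1 = (k - 1) * (k - 1) by linear_combination k * h3]
    exact mul_ne_zero (sub_ne_zero.mpr hk.2.1) (sub_ne_zero.mpr hk.2.1)
  · refine ⟨1, one_ne_zero, by rwa [one_add_one_eq_two], ?_⟩
    rw [one_mul, show (1 : F) + 1 + 1 = 3 by norm_num]
    exact h3

/-- Two generic groups. -/
theorem full_gg (h2 : (2 : F) ≠ 0) (h5 : 5 ≤ Fintype.card F) {w e h : Vs} (he : fS w e = 0) (hh : fS w h = 0)
    (hne : fS e h ≠ 0) {s t : F} (ht : t ≠ 0)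
    (hP : ∀ a : F, T w (a * s) * T e a ∈ K) (hP' : ∀ a : F, T w (a * t) * T h a ∈ K) : Full K w := by
  obtain ⟨κ, hκ⟩ : ∃ κ, fS e h = κ := ⟨_, rfl⟩
  rw [hκ] at hne
  obtain ⟨φ, hφ⟩ : ∃ φ : F → F, ∀ a, φ a = 4 * (2 * (a * s) + (a * κ ^ 2)⁻¹ * t) := ⟨_, fun _ => rfl⟩
  have key : ∀ a : F, a ≠ 0 → T w (φ a) ∈ K := fun a ha => by
    obtain ⟨b, hb⟩ : ∃ b, b = (a * κ ^ 2)⁻¹ := ⟨_, rfl⟩
    have hab : a * b * κ ^ 2 = 1 := by rw [hb]; field_simp
    have hc1 : ∀ r, Commute (T e a) (T w r) := fun r => (T_comm he r a).symm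
    have hc2 : ∀ r, Commute (T h b) (T w r) := fun r => (T_comm hh r b).symm
    have hu := hP a
    have hu' := hP' b
    have hmem := pow_mem (mul_mem (mul_mem hu hu') hu) 4
    have hc : ∀ r, Commute (T e a * T h b * T e a) (T w r) := fun r => ((hc1 r).mul_left (hc2 r)).mul_left (hc1 r)
    rw [show T w (a * s) * T e a * (T w (b * t) * T h b) * (T w (a * s) * T e a) =
        T w (2 * (a * s) + b * t) * (T e a * T h b * T e a) from ?_, (hc _).symm.mul_pow, weyl_four hκ hab,
      mul_one] at hmem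
    · rw [show T w (2 * (a * s) + b * t) ^ 4 = T w (φ a) from ?_] at hmem
      · exact hmem
      · rw [hφ, ← hb, pow_succ, pow_succ, pow_succ, pow_one, T_add, T_add, T_add]; congr 1; ring
    · rw [show (2 : F) * (a * s) + b * t = a * s + b * t + a * s by ring, ← T_add, ← T_add]
      simp only [mul_assoc]
      congr 1
      rw [← mul_assoc (T e a) (T w (b * t)), (hc1 _).eq, mul_assoc]
      congr 1
      rw [← mul_assoc (T h b) (T w (a * s)), (hc2 _).eq, mul_assoc, ← mul_assoc (T e a) (T w (a * s)), (hc1 _).eq,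
        mul_assoc]
  obtain ⟨k, hk, hk1, hkψ⟩ := exists_nonadd h2 h5
  have h4 : (4 : F) ≠ 0 := by rw [show (4 : F) = 2 * 2 by norm_num]; exact mul_ne_zero h2 h2
  refine full_of_scaled (k := 4 * t * (κ ^ 2)⁻¹ * (1 + k⁻¹ - (1 + k)⁻¹))
    (mul_ne_zero (mul_ne_zero (mul_ne_zero h4 ht) (inv_ne_zero (pow_ne_zero 2 hne))) hkψ) fun c => ?_
  by_cases hc0 : c = 0
  · rw [hc0, zero_mul, T_zero]; exact one_mem K
  have := mul_mem (mul_mem (key c⁻¹ (inv_ne_zero hc0)) (key (c⁻¹ * k) (mul_ne_zero (inv_ne_zero hc0) hk)))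
    (inv_mem (key (c⁻¹ * (1 + k)) (mul_ne_zero (inv_ne_zero hc0) hk1)))
  rw [← T_neg, T_add, T_add, hφ, hφ, hφ] at this
  convert this using 2
  simp only [_root_.mul_inv_rev, inv_inv, inv_pow]
  ring

/-- A totally isotropic plane is its own orthogonal. -/
theorem perp_plane {w e : Vs} (hwe : fS w e = 0) (hind : ∀ c : F, e ≠ c • w) (hw : w ≠ 0) :
    (∀ h, fS w h = 0 → fS e h = 0 → ∃ p r : F, h = p • w + r • e) ∧ ∀ p r : F, ∃ x, fS w x = p ∧ fS e x = r := by
  classical
  obtain ⟨φ, hφ⟩ : ∃ φ : Vs →ₗ[F] F × F, ∀ x, φ x = (fS w x, fS e x) := ⟨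
    { toFun := fun x => (fS w x, fS e x)
      map_add' := fun a b => by rw [f_add_right, f_add_right]; rfl
      map_smul' := fun c a => by rw [f_smul_right, f_smul_right]; rfl }, fun _ => rfl⟩
  have hli : LinearIndependent F ![w, e] := (LinearIndependent.pair_iff' hw).mpr fun c => (hind c).symm
  have hsurj : Function.Surjective φ := by
    rw [← LinearMap.range_eq_top]
    by_contra hne
    obtain ⟨ψ, hψ0, hψ⟩ := Submodule.exists_dual_map_eq_bot_of_lt_top (lt_top_iff_ne_top.mpr hne) inferInstance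
    have hker : ∀ x, ψ (φ x) = 0 := fun x => (Submodule.eq_bot_iff _).mp hψ _
      ⟨φ x, ⟨x, rfl⟩, rfl⟩
    have hψe : ∀ p r : F, ψ (p, r) = p * ψ (1, 0) + r * ψ (0, 1) := fun p r => by
      conv_lhs => rw [show ((p, r) : F × F) = p • (1, 0) + r • (0, 1) by simp]
      rw [map_add, map_smul, map_smul, smul_eq_mul, smul_eq_mul]
    have hz : ψ (1, 0) • w + ψ (0, 1) • e = 0 := f_nd fun x => by
      have := hker x
      rw [hφ, hψe] at this
      rw [f_skew, f_add_left, f_smul_left, f_smul_left]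
      linear_combination -this
    have hp := LinearIndependent.pair_iff.mp hli _ _ hz
    exact hψ0 (LinearMap.ext fun y => by rw [show y = (y.1, y.2) from rfl, hψe, hp.1, hp.2]; simp)
  refine ⟨fun h h1 h2 => ?_, fun p r => ?_⟩
  · have hker : Module.finrank F (LinearMap.ker φ) = 2 := by
      have := LinearMap.finrank_range_add_finrank_ker φ
      rw [LinearMap.range_eq_top.mpr hsurj, finrank_top, Module.finrank_prod, Module.finrank_self,
        Module.finrank_fintype_fun_eq_card, Fintype.card_sum, Fintype.card_fin] at this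
      omega
    have hle : Submodule.span F (Set.range ![w, e]) ≤ LinearMap.ker φ := by
      rw [Submodule.span_le]
      rintro _ ⟨i, rfl⟩
      fin_cases i <;> simp only [SetLike.mem_coe, LinearMap.mem_ker, hφ] <;>
        simp [f_self, hwe, f_skew e w]
    have heq := Submodule.eq_of_le_of_finrank_eq hle (by rw [finrank_span_eq_card hli, Fintype.card_fin, hker])
    have hm : h ∈ LinearMap.ker φ := by simp [hφ, h1, h2]
    rw [← heq, Matrix.range_cons, Matrix.range_cons, Matrix.range_empty, Set.union_empty, Set.singleton_union,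
      Submodule.mem_span_pair] at hm
    obtain ⟨a, b, hab⟩ := hm
    exact ⟨a, b, hab.symm⟩
  · obtain ⟨x, hx⟩ := hsurj (p, r)
    rw [hφ, Prod.mk.injEq] at hx
    exact ⟨x, hx⟩

/-! ### Growing the set of centres -/

theorem Full.smul {v : Vs} (h : Full K v) (s : F) : Full K (s • v) := fun c => by rw [T_smul]; exact h _

theorem Full.map (hK : K ≤ spGL 2 F) {g : Gs} (hg : g ∈ K) {v : Vs} (h : Full K v) :
    Full K ((g : Matrix ιS ιS F) *ᵥ v) := fun c => by
  rw [← T_conj (hK hg)]
  exact mul_mem (mul_mem hg (h c)) (inv_mem hg)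

theorem Full.shift (hK : K ≤ spGL 2 F) {x z : Vs} (hz : Full K z) (hx : Full K x) (c : F) :
    Full K (x + (c * fS x z) • z) := T_apply z c x ▸ Full.map hK (hz c) hx

/-- The plane of two non-orthogonal centres. -/
theorem Full.plane (hK : K ≤ spGL 2 F) {x y : Vs} (hx : Full K x) (hy : Full K y) (h : fS x y ≠ 0) (a b : F) :
    Full K (a • x + b • y) := by
  by_cases ha : a = 0
  · rw [ha, zero_smul, zero_add]; exact hy.smul b
  have := (hy.shift hK hx (b * (a * fS x y)⁻¹)).smul a
  rwa [smul_add, smul_smul, show a * (b * (a * fS x y)⁻¹ * fS x y) = b by field_simp] at this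

/-- If the centres contain two planes, the transvections of `K` fill the symplectic group. -/
theorem spGL_le_of_full (h : ∀ v : Vs, Full K v) : spGL 2 F ≤ K :=
  SpOver.spGL_le fun v c g hg => by rw [T_eq hg]; exact h v c

end Cfsg.Agent.Classical.SpFourOdd
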