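/-
A skew map of square a nonzero scalar on the symplectic four-space: the isometries commuting or anticommuting with it
have no overgroup among the isometries other than themselves and the whole group, for at least five scalars.
-/
import Cfsg.Agent.Lib.Classical.SpFourOdd.Transvection

set_option autoImplicit false
set_option linter.unusedSectionVars false
set_option linter.style.haveILetI false

namespace Cfsg.Agent.Classical.SpFourOdd

open Matrix Cfsg.Geo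
open Cfsg.Agent.Classical

variable {F : Type*} [Field F] [Fintype F]

local notation "ιS" => Fin 2 ⊕ Fin 2
local notation "Vs" => Fin 2 ⊕ Fin 2 → F
local notation "Gs" => GL (Fin 2 ⊕ Fin 2) F
local notation "fS" => Cfsg.sympForm 2 F

/-- An isometry from a linear map. -/
theorem exists_iso (L : Vs →ₗ[F] Vs) (h : ∀ x y, fS (L x) (L y) = fS x y) :
    ∃ g ∈ spGL 2 F, ∀ x, (g : Matrix ιS ιS F) *ᵥ x = L x := by
  classical
  have hmv : ∀ x, LinearMap.toMatrix' L *ᵥ x = L x := fun x => by rw [← Matrix.toLin'_apply, Matrix.toLin'_toMatrix']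
  have hinj : Function.Injective (LinearMap.toMatrix' L).mulVec := fun a b e => by
    simp only [hmv] at e
    refine sub_eq_zero.mp (f_nd fun x => ?_)
    rw [← h x (a - b), map_sub, e, sub_self, f_zero_right]
  obtain ⟨g, hg⟩ := Matrix.mulVec_injective_iff_isUnit.mp hinj
  refine ⟨g, fun x y => ?_, fun x => by rw [hg, hmv]⟩
  show fS ((g : Matrix ιS ιS F) *ᵥ x) ((g : Matrix ιS ιS F) *ᵥ y) = fS x y
  rw [hg, hmv, hmv, h]

/-- The standing situation. -/
structure Skew (J : Matrix (Fin 2 ⊕ Fin 2) (Fin 2 ⊕ Fin 2) F) (d : F) (K : Subgroup (GL (Fin 2 ⊕ Fin 2) F)) : Prop where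
  h2 : (2 : F) ≠ 0
  h5 : 5 ≤ Fintype.card F
  d0 : d ≠ 0
  sq : ∀ x, J *ᵥ (J *ᵥ x) = d • x
  skew : ∀ x y, Cfsg.sympForm 2 F (J *ᵥ x) y = -Cfsg.sympForm 2 F x (J *ᵥ y)
  le : K ≤ spGL 2 F
  norm : ∀ g ∈ spGL 2 F, ((∀ x, (g : Matrix _ _ F) *ᵥ (J *ᵥ x) = J *ᵥ ((g : Matrix _ _ F) *ᵥ x)) ∨
    ∀ x, (g : Matrix _ _ F) *ᵥ (J *ᵥ x) = -(J *ᵥ ((g : Matrix _ _ F) *ᵥ x))) → g ∈ K

variable {J : Matrix (Fin 2 ⊕ Fin 2) (Fin 2 ⊕ Fin 2) F} {d : F} {K : Subgroup (GL (Fin 2 ⊕ Fin 2) F)}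

/-- A point of the quadric outside the eigenspaces. -/
structure Pt (J : Matrix (Fin 2 ⊕ Fin 2) (Fin 2 ⊕ Fin 2) F) (x : Fin 2 ⊕ Fin 2 → F) : Prop where
  null : Cfsg.sympForm 2 F x (J *ᵥ x) = 0
  ne : x ≠ 0
  indep : ∀ c : F, J *ᵥ x ≠ c • x

/-- Two orthogonal planes with opposite values. -/
structure Frm (J : Matrix (Fin 2 ⊕ Fin 2) (Fin 2 ⊕ Fin 2) F) (u v : Fin 2 ⊕ Fin 2 → F) : Prop where
  ne : Cfsg.sympForm 2 F u (J *ᵥ u) ≠ 0
  vu : Cfsg.sympForm 2 F v u = 0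
  vJu : Cfsg.sympForm 2 F v (J *ᵥ u) = 0
  vJv : Cfsg.sympForm 2 F v (J *ᵥ v) = -Cfsg.sympForm 2 F u (J *ᵥ u)

namespace Skew

variable (S : Skew J d K)

include S

theorem f_JJ (x y : Vs) : fS (J *ᵥ x) (J *ᵥ y) = -d * fS x y := by
  rw [S.skew, S.sq, f_smul_right]; ring

theorem f_J_self (x y : Vs) : fS y (J *ᵥ x) = fS x (J *ᵥ y) := by
  rw [f_skew y, S.skew, neg_neg]

theorem f_Jx (x : Vs) : fS (J *ᵥ x) x = -fS x (J *ᵥ x) := f_skew _ _

theorem exists_norm_one : ∃ a b : F, a * a - d * (b * b) = 1 ∧ b ≠ 0 ∧ a ≠ 1 := by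
  classical
  obtain ⟨t, ht0, ht⟩ : ∃ t : F, t ≠ 0 ∧ 1 - d * (t * t) ≠ 0 := by
    by_contra hcon
    push Not at hcon
    obtain ⟨s, -, hs⟩ := Finset.exists_mem_notMem_of_card_lt_card (s := ({0, 1, -1} : Finset F)) (t := Finset.univ)
      (lt_of_le_of_lt Finset.card_le_three (by rw [Finset.card_univ]; have := S.h5; omega))
    simp only [Finset.mem_insert, Finset.mem_singleton, not_or] at hs
    have e1 := hcon s hs.1
    have e2 := hcon 1 one_ne_zero
    have e3 : (s - 1) * (s + 1) * d = 0 := by linear_combination e2 - e1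
    rcases mul_eq_zero.mp e3 with e | e
    · rcases mul_eq_zero.mp e with e | e
      · exact hs.2.1 (sub_eq_zero.mp e)
      · exact hs.2.2 (eq_neg_of_add_eq_zero_left e)
    · exact S.d0 e
  obtain ⟨D, hD⟩ : ∃ D, D = 1 - d * (t * t) := ⟨_, rfl⟩
  rw [← hD] at ht
  refine ⟨(1 + d * (t * t)) / D, 2 * t / D, ?_, div_ne_zero (mul_ne_zero S.h2 ht0) ht, fun e => ?_⟩
  · field_simp
    rw [hD]
    ring
  · rw [div_eq_one_iff_eq ht, hD] at e
    have : (2 : F) * (d * (t * t)) = 0 := by linear_combination e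
    simp [S.h2, S.d0, ht0] at this

theorem exists_value (k : F) : ∃ a b : F, a * a - d * (b * b) = k := by
  classical
  obtain ⟨a, b, h⟩ := FiniteField.exists_root_sum_quadratic (f := Polynomial.X ^ 2 - Polynomial.C k)
    (g := Polynomial.C (-d) * Polynomial.X ^ 2) (Polynomial.degree_X_pow_sub_C (by norm_num) k)
    (Polynomial.degree_C_mul_X_pow 2 (neg_ne_zero.mpr S.d0))
    (FiniteField.odd_card_of_char_ne_two fun hc => S.h2 (by
      haveI := ringChar.of_eq hc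
      exact CharTwo.two_eq_zero))
  refine ⟨a, b, ?_⟩
  simp at h
  linear_combination h

theorem exists_frame {u : Vs} (hu : fS u (J *ᵥ u) ≠ 0) : ∃ v, Frm J u v := by
  classical
  obtain ⟨q, hq⟩ : ∃ q, q = fS u (J *ᵥ u) := ⟨_, rfl⟩
  have hq0 : q ≠ 0 := hq ▸ hu
  obtain ⟨P, hP⟩ : ∃ P : Vs → Vs, ∀ x, P x = x - (q⁻¹ * fS x (J *ᵥ u)) • u + (q⁻¹ * fS x u) • (J *ᵥ u) :=
    ⟨_, fun _ => rfl⟩
  have hP1 : ∀ x, fS (P x) u = 0 := fun x => by
    rw [hP, f_add_left, f_sub_left, f_smul_left, f_smul_left, f_self, S.f_Jx, ← hq]; field_simp; ring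
  have hP2 : ∀ x, fS (P x) (J *ᵥ u) = 0 := fun x => by
    rw [hP, f_add_left, f_sub_left, f_smul_left, f_smul_left, f_self, ← hq]; field_simp; ring
  obtain ⟨x₀, hx₀⟩ : ∃ x₀, P x₀ ≠ 0 := by
    by_contra hcon
    push Not at hcon
    have htop : (⊤ : Submodule F Vs) ≤ Submodule.span F (Set.range ![u, J *ᵥ u]) := fun x _ => by
      have e := hcon x
      rw [hP] at e
      rw [Matrix.range_cons, Matrix.range_cons, Matrix.range_empty, Set.union_empty, Set.singleton_union,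
        Submodule.mem_span_pair]
      exact ⟨q⁻¹ * fS x (J *ᵥ u), -(q⁻¹ * fS x u), by linear_combination (norm := module) -e⟩
    have h1 := Submodule.finrank_mono htop
    have h2 := finrank_span_le_card (R := F) (Set.range ![u, J *ᵥ u])
    have h3 : (Set.range ![u, J *ᵥ u]).toFinset.card ≤ 2 := by
      rw [Set.toFinset_range]
      exact Finset.card_image_le.trans (by simp)
    rw [finrank_top, Module.finrank_fintype_fun_eq_card, Fintype.card_sum, Fintype.card_fin] at h1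
    omega
  obtain ⟨z, hz⟩ : ∃ z, z = P x₀ := ⟨_, rfl⟩
  obtain ⟨x₁, hx₁⟩ : ∃ x₁, fS x₁ (J *ᵥ z) ≠ 0 := by
    by_contra hcon
    push Not at hcon
    have := f_nd hcon
    have e := S.sq z
    rw [this, Matrix.mulVec_zero] at e
    exact hx₀ (hz ▸ (smul_eq_zero.mp e.symm).resolve_left S.d0)
  obtain ⟨z', hz'⟩ : ∃ z', z' = P x₁ := ⟨_, rfl⟩
  have hzz : fS z (J *ᵥ z') ≠ 0 := by
    rw [S.f_J_self, hz', hP, f_add_left, f_sub_left, f_smul_left, f_smul_left, S.f_JJ, S.f_J_self z u, hz, hP2,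
      f_skew u, hP1]
    simpa [hz] using hx₁
  obtain ⟨y, hy1, hy2, hy⟩ : ∃ y, fS y u = 0 ∧ fS y (J *ᵥ u) = 0 ∧ fS y (J *ᵥ y) ≠ 0 := by
    by_cases h1 : fS z (J *ᵥ z) = 0
    · by_cases h2 : fS z' (J *ᵥ z') = 0
      · refine ⟨z + z', by rw [f_add_left, hz, hz', hP1, hP1, add_zero],
          by rw [f_add_left, hz, hz', hP2, hP2, add_zero], ?_⟩
        rw [Matrix.mulVec_add, f_add_left, f_add_right, f_add_right, h1, h2, S.f_J_self z z', zero_add, add_zero,
          ← two_mul]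
        exact mul_ne_zero S.h2 hzz
      · exact ⟨z', hz' ▸ hP1 _, hz' ▸ hP2 _, h2⟩
    · exact ⟨z, hz ▸ hP1 _, hz ▸ hP2 _, h1⟩
  obtain ⟨a, b, hab⟩ := S.exists_value (-q / fS y (J *ᵥ y))
  refine ⟨a • y + b • (J *ᵥ y), hu, ?_, ?_, ?_⟩
  · rw [f_add_left, f_smul_left, f_smul_left, hy1, S.skew, hy2]; ring
  · rw [f_add_left, f_smul_left, f_smul_left, hy2, S.f_JJ, hy1]; ring
  · rw [← hq, Matrix.mulVec_add, Matrix.mulVec_smul, Matrix.mulVec_smul, S.sq]
    simp only [f_add_left, f_add_right, f_smul_left, f_smul_right, f_self, S.f_Jx y]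
    field_simp at hab
    linear_combination hab

theorem frm_facts {u v : Vs} (R : Frm J u v) :
    fS u v = 0 ∧ fS u (J *ᵥ v) = 0 ∧ fS (J *ᵥ u) v = 0 ∧ fS (J *ᵥ v) u = 0 ∧ fS (J *ᵥ u) (J *ᵥ v) = 0 ∧
      fS (J *ᵥ v) (J *ᵥ u) = 0 ∧ fS (J *ᵥ u) u = -fS u (J *ᵥ u) ∧ fS (J *ᵥ v) v = fS u (J *ᵥ u) := by
  have e1 : fS u v = 0 := by rw [f_skew, R.vu, neg_zero]
  have e2 : fS u (J *ᵥ v) = 0 := by rw [S.f_J_self, R.vJu]
  refine ⟨e1, e2, by rw [S.skew, e2, neg_zero], by rw [S.skew, R.vJu, neg_zero], by rw [S.f_JJ, e1, mul_zero],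
    by rw [S.f_JJ, R.vu, mul_zero], S.f_Jx u, by rw [S.f_Jx, R.vJv, neg_neg]⟩

/-- The coordinates of a frame. -/
theorem expand {u v : Vs} (R : Frm J u v) (x : Vs) :
    x = ((fS u (J *ᵥ u))⁻¹ * fS x (J *ᵥ u)) • u + (-((fS u (J *ᵥ u))⁻¹ * fS x u)) • (J *ᵥ u) +
      (-((fS u (J *ᵥ u))⁻¹ * fS x (J *ᵥ v))) • v + ((fS u (J *ᵥ u))⁻¹ * fS x v) • (J *ᵥ v) := by
  obtain ⟨e1, e2, e3, e4, e5, e6, e7, e8⟩ := S.frm_facts R
  obtain ⟨q, hq⟩ : ∃ q, q = fS u (J *ᵥ u) := ⟨_, rfl⟩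
  have hq0 : q ≠ 0 := hq ▸ R.ne
  rw [← hq] at e7 e8 ⊢
  have hvv : fS v (J *ᵥ v) = -q := hq ▸ R.vJv
  refine sub_eq_zero.mp ?_
  obtain ⟨z, hz⟩ : ∃ z, z = x - ((q⁻¹ * fS x (J *ᵥ u)) • u + (-(q⁻¹ * fS x u)) • (J *ᵥ u) +
      (-(q⁻¹ * fS x (J *ᵥ v))) • v + (q⁻¹ * fS x v) • (J *ᵥ v)) := ⟨_, rfl⟩
  rw [← hz]
  have h1 : fS z u = 0 := by
    rw [hz]; simp only [f_sub_left, f_add_left, f_smul_left, f_self, R.vu, e4, e7]; field_simp; ring
  have h2 : fS z (J *ᵥ u) = 0 := by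
    rw [hz]; simp only [f_sub_left, f_add_left, f_smul_left, f_self, R.vJu, e6, ← hq]; field_simp; ring
  have h3 : fS z v = 0 := by
    rw [hz]; simp only [f_sub_left, f_add_left, f_smul_left, f_self, e1, e3, e8]; field_simp; ring
  have h4 : fS z (J *ᵥ v) = 0 := by
    rw [hz]; simp only [f_sub_left, f_add_left, f_smul_left, f_self, e2, e5, hvv]; field_simp; ring
  obtain ⟨p, r, hpr⟩ := (perp_plane (w := u + v) (e := J *ᵥ (u + v)) (by
      rw [Matrix.mulVec_add, f_add_left, f_add_right, f_add_right, hvv, e2, R.vJu, ← hq]; ring)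
    (fun c h => hq0 (by
      have := congrArg (fun w => fS w u) h
      simp only [Matrix.mulVec_add, f_add_left, f_smul_left, f_self, R.vu, e4, e7] at this
      linear_combination -this))
    (fun h => hq0 (by
      have := congrArg (fun w => fS w (J *ᵥ u)) h
      simp only [f_add_left, R.vJu, f_zero_left, ← hq] at this
      linear_combination this))).1 z
    (by rw [f_add_left, f_skew u, f_skew v, h1, h3]; ring)
    (by rw [Matrix.mulVec_add, f_add_left, f_skew (J *ᵥ u), f_skew (J *ᵥ v), h2, h4]; ring)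
  have hp : p = 0 := by
    have := h2
    simp only [hpr, Matrix.mulVec_add, f_add_left, f_smul_left, f_self, R.vJu, e6, ← hq] at this
    exact (mul_eq_zero.mp (show p * q = 0 by linear_combination this)).resolve_right hq0
  have hr : r = 0 := by
    have := h1
    simp only [hpr, Matrix.mulVec_add, f_add_left, f_smul_left, f_self, R.vu, e4, e7] at this
    exact (mul_eq_zero.mp (show r * q = 0 by linear_combination -this)).resolve_right hq0
  rw [hpr, hp, hr, zero_smul, zero_smul, add_zero]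

/-- The map multiplying a plane by a scalar of norm one. -/
theorem exists_rot {u : Vs} (hu : fS u (J *ᵥ u) ≠ 0) {a b : F} (hab : a * a - d * (b * b) = 1) :
    ∃ g ∈ K, ∀ x, (g : Matrix ιS ιS F) *ᵥ x = x +
      ((fS u (J *ᵥ u))⁻¹ * ((a - 1) * fS x (J *ᵥ u) - b * d * fS x u)) • u +
      ((fS u (J *ᵥ u))⁻¹ * (b * fS x (J *ᵥ u) - (a - 1) * fS x u)) • (J *ᵥ u) := by
  obtain ⟨q, hq⟩ : ∃ q, q = fS u (J *ᵥ u) := ⟨_, rfl⟩
  have hq0 : q ≠ 0 := hq ▸ hu
  rw [← hq]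
  let L : Vs →ₗ[F] Vs :=
    { toFun := fun x => x + (q⁻¹ * ((a - 1) * fS x (J *ᵥ u) - b * d * fS x u)) • u +
        (q⁻¹ * (b * fS x (J *ᵥ u) - (a - 1) * fS x u)) • (J *ᵥ u)
      map_add' := fun x y => by rw [f_add_left, f_add_left]; module
      map_smul' := fun c x => by rw [f_smul_left, f_smul_left, RingHom.id_apply]; module }
  obtain ⟨g, hg, hgx⟩ := exists_iso L fun x y => by
    show fS (x + _ + _) (y + _ + _) = _
    simp only [f_add_left, f_add_right, f_smul_left, f_smul_right, f_self, f_skew u y, f_skew (J *ᵥ u) y, S.f_Jx u,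
      ← hq]
    field_simp
    linear_combination (q * (fS x u * fS y (J *ᵥ u) - fS y u * fS x (J *ᵥ u))) * hab
  refine ⟨g, S.norm g hg (Or.inl fun x => ?_), hgx⟩
  rw [hgx, hgx]
  show J *ᵥ x + _ + _ = J *ᵥ (x + _ + _)
  rw [Matrix.mulVec_add, Matrix.mulVec_add, Matrix.mulVec_smul, Matrix.mulVec_smul, S.sq, S.f_JJ, S.skew x u]
  module

/-- An element anticommuting with `J`, when `d` is a square. -/
theorem exists_anti {u v : Vs} (R : Frm J u v) {ε : F} (hε : ε * ε = d) :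
    ∃ g ∈ K, (g : Matrix ιS ιS F) *ᵥ u = -ε⁻¹ • (J *ᵥ u) ∧ (g : Matrix ιS ιS F) *ᵥ (J *ᵥ u) = ε • u := by
  obtain ⟨e1, e2, e3, e4, e5, e6, e7, e8⟩ := S.frm_facts R
  obtain ⟨q, hq⟩ : ∃ q, q = fS u (J *ᵥ u) := ⟨_, rfl⟩
  have hq0 : q ≠ 0 := hq ▸ R.ne
  have hε0 : ε ≠ 0 := fun h => S.d0 (by rw [← hε, h, zero_mul])
  rw [← hq] at e7 e8
  have hvv : fS v (J *ᵥ v) = -q := hq ▸ R.vJv
  let L : Vs →ₗ[F] Vs :=
    { toFun := fun x => (-(q⁻¹ * fS x (J *ᵥ u) * ε⁻¹)) • (J *ᵥ u) + (-(q⁻¹ * fS x u * ε)) • u +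
        (q⁻¹ * fS x (J *ᵥ v) * ε⁻¹) • (J *ᵥ v) + (q⁻¹ * fS x v * ε) • v
      map_add' := fun x y => by rw [f_add_left, f_add_left, f_add_left, f_add_left]; module
      map_smul' := fun c x => by rw [f_smul_left, f_smul_left, f_smul_left, f_smul_left, RingHom.id_apply]; module }
  obtain ⟨g, hg, hgx⟩ := exists_iso L fun x y => by
    show fS (_ + _ + _ + _) (_ + _ + _ + _) = _
    conv_rhs => rw [S.expand R x]
    simp only [f_add_left, f_add_right, f_smul_left, f_smul_right, f_self, f_skew u y, f_skew (J *ᵥ u) y,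
      f_skew v y, f_skew (J *ᵥ v) y, R.vu, R.vJu, hvv, e1, e2, e3, e4, e5, e6, e7, e8, ← hq]
    field_simp
    ring
  have hgx' : ∀ x, (g : Matrix ιS ιS F) *ᵥ x =
      (-(q⁻¹ * fS x (J *ᵥ u) * ε⁻¹)) • (J *ᵥ u) + (-(q⁻¹ * fS x u * ε)) • u +
        (q⁻¹ * fS x (J *ᵥ v) * ε⁻¹) • (J *ᵥ v) + (q⁻¹ * fS x v * ε) • v := hgx
  refine ⟨g, S.norm g hg (Or.inr fun x => ?_), ?_, ?_⟩
  · rw [hgx', hgx']
    simp only [Matrix.mulVec_add, Matrix.mulVec_smul, S.sq, S.f_JJ, S.skew x]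
    match_scalars <;> field_simp <;> linear_combination (norm := ring_nf) 0 <;> rw [← hε] <;> ring
  · rw [hgx']
    simp only [f_self, e1, e2, ← hq]
    match_scalars <;> field_simp <;> ring
  · rw [hgx']
    simp only [f_self, e3, e5, e7]
    match_scalars <;> field_simp <;> ring

/-- The unipotent elements commuting with `J` at a null vector. -/
theorem pair_mem {x : Vs} (hx : fS x (J *ᵥ x) = 0) (c : F) : T x (c * d) * T (J *ᵥ x) (-c) ∈ K := by
  refine S.norm _ (mul_mem (T_mem _ _) (T_mem _ _)) (Or.inl fun y => ?_)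
  simp only [gl_mul_mulVec, T_apply, Matrix.mulVec_add, Matrix.mulVec_smul, f_add_left, f_smul_left, f_smul_right, S.f_Jx x, hx,
    S.sq, S.skew, S.f_JJ]
  module

/-- The same element at an eigenvector of its plane. -/
theorem eigen_mem {x : Vs} (hx : fS x (J *ᵥ x) = 0) {p r : F} (h : p * p = d * (r * r)) (hr : r ≠ 0) (k : F) :
    fS (p • x + r • (J *ᵥ x)) (p • x - r • (J *ᵥ x)) = 0 ∧
      E (p • x + r • (J *ᵥ x)) (k • (p • x - r • (J *ᵥ x))) ∈ K := by
  have h0 : fS (p • x + r • (J *ᵥ x)) (p • x - r • (J *ᵥ x)) = 0 := by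
    simp only [f_add_left, f_sub_right, f_smul_left, f_smul_right, f_self, S.f_Jx x, hx]; ring
  refine ⟨h0, ?_⟩
  have h1 : fS (p • x + r • (J *ᵥ x)) (k • (p • x - r • (J *ᵥ x))) = 0 := by rw [f_smul_right, h0, mul_zero]
  have := S.pair_mem hx (2 * k * (r * r))
  rwa [show T x (2 * k * (r * r) * d) * T (J *ᵥ x) (-(2 * k * (r * r))) =
    E (p • x + r • (J *ᵥ x)) (k • (p • x - r • (J *ᵥ x))) from E_eq S.h2 h1 fun y => by
      rw [gl_mul_mulVec, T_apply, T_apply, f_add_left, f_smul_left, S.f_Jx x, hx]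
      simp only [f_add_right, f_sub_right, f_smul_right]
      match_scalars <;> first
        | ring1
        | linear_combination (2 * k * fS y x) * h
        | linear_combination (2 * k * fS y x) * h
        | linear_combination (-(2 * k * fS y x)) * h
        | linear_combination (k * fS y x * 2) * h
        | linear_combination (-(k * fS y x * 2)) * h] at this

/-- A centre off the quadric: all centres. -/
theorem all_of_nonnull {u : Vs} (hu : fS u (J *ᵥ u) ≠ 0) (hC : Full K u) : spGL 2 F ≤ K := by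
  obtain ⟨a, b, hab, hb, -⟩ := S.exists_norm_one
  obtain ⟨v, R⟩ := S.exists_frame hu
  obtain ⟨e1, e2, e3, e4, e5, e6, e7, e8⟩ := S.frm_facts R
  obtain ⟨q, hq⟩ : ∃ q, q = fS u (J *ᵥ u) := ⟨_, rfl⟩
  have hq0 : q ≠ 0 := hq ▸ R.ne
  rw [← hq] at e7 e8
  obtain ⟨Pl, hPl⟩ : ∃ Pl : F → F → Vs, ∀ x y, Pl x y = x • u + y • (J *ᵥ u) := ⟨_, fun _ _ => rfl⟩
  have hfPl : ∀ x y x' y', fS (Pl x y) (Pl x' y') = q * (x * y' - x' * y) := fun x y x' y' => by
    simp only [hPl, f_add_left, f_add_right, f_smul_left, f_smul_right, f_self, e7, ← hq]; ring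
  have hPlC : ∀ x y, Full K (Pl x y) := by
    obtain ⟨g, hg, hgx⟩ := S.exists_rot hu hab
    have h1 := Full.map S.le hg hC
    rw [show (g : Matrix ιS ιS F) *ᵥ u = a • u + b • (J *ᵥ u) by
      rw [hgx, f_self, ← hq]; match_scalars <;> field_simp <;> ring] at h1
    intro x y
    have h3 := Full.plane S.le hC h1 (by
      rw [f_add_right, f_smul_right, f_smul_right, f_self, ← hq, mul_zero, zero_add]; exact mul_ne_zero hb hq0)
      (x - y * b⁻¹ * a) (y * b⁻¹)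
    rwa [show Pl x y = (x - y * b⁻¹ * a) • u + (y * b⁻¹) • (a • u + b • (J *ᵥ u)) by
      rw [hPl]; match_scalars <;> field_simp <;> ring]
  -- a whole line of translates
  have hline : ∀ (s : Vs) (x₀ y₀ : F), fS s u = 0 → fS s (J *ᵥ u) = 0 → (x₀ ≠ 0 ∨ y₀ ≠ 0) →
      Full K (Pl x₀ y₀ + s) → ∀ x y ν : F, (x ≠ 0 ∨ y ≠ 0) → Full K (Pl x y + ν • s) := by
    intro s x₀ y₀ hs1 hs2 h0 hz
    have hsPl : ∀ x y, fS s (Pl x y) = 0 := fun x y => by
      rw [hPl, f_add_right, f_smul_right, f_smul_right, hs1, hs2]; ring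
    have hPls : ∀ x y, fS (Pl x y) s = 0 := fun x y => by rw [f_skew, hsPl, neg_zero]
    have step : ∀ x y ν, x * y₀ - x₀ * y ≠ 0 → Full K (Pl x y + ν • s) := fun x y ν h => by
      have h1 := Full.plane S.le (hPlC (x - ν * x₀) (y - ν * y₀)) hz (by
        rw [f_add_right, hPls, add_zero, hfPl]
        exact mul_ne_zero hq0 (fun e => h (by linear_combination e))) 1 ν
      rwa [show Pl x y + ν • s = (1 : F) • Pl (x - ν * x₀) (y - ν * y₀) + ν • (Pl x₀ y₀ + s) by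
        simp only [hPl]; module]
    intro x y ν hxy
    by_cases h : x * y₀ - x₀ * y = 0
    swap
    · exact step x y ν h
    obtain ⟨x₂, y₂, h3⟩ : ∃ x₂ y₂, x₂ * y₀ - x₀ * y₂ ≠ 0 := by
      rcases h0 with h0 | h0
      · exact ⟨0, 1, by simpa using h0⟩
      · exact ⟨1, 0, by simpa using h0⟩
    have h1 := Full.plane S.le (step (x + x₂) (y + y₂) ν (fun e => h3 (by linear_combination e - h)))
      (hPlC x₂ y₂) (by
        rw [f_add_left, f_smul_left, hsPl, mul_zero, add_zero, hfPl]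
        refine mul_ne_zero hq0 fun e => ?_
        have e' : x * y₂ - x₂ * y = 0 := by linear_combination e
        rcases hxy with hx | hy
        · exact mul_ne_zero hx h3 (by linear_combination x₂ * h - x₀ * e')
        · exact mul_ne_zero hy h3 (by linear_combination y₂ * h - y₀ * e')) 1 (-1)
    rwa [show Pl x y + ν • s = (1 : F) • (Pl (x + x₂) (y + y₂) + ν • s) + (-1 : F) • Pl x₂ y₂ by
      simp only [hPl]; module]
  -- two lines
  have hvv : fS v (J *ᵥ v) = -q := hq ▸ R.vJv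
  have hget : ∀ w, fS w u = 0 → fS w (J *ᵥ u) = 0 → fS w (J *ᵥ w) = -q →
      ∀ x y ν : F, (x ≠ 0 ∨ y ≠ 0) → Full K (Pl x y + ν • (J *ᵥ w)) := by
    intro w hw1 hw2 hw3
    have f1 : fS u w = 0 := by rw [f_skew, hw1, neg_zero]
    have f2 : fS u (J *ᵥ w) = 0 := by rw [S.f_J_self, hw2]
    have hn : fS (u + w) (J *ᵥ (u + w)) = 0 := by
      rw [Matrix.mulVec_add, f_add_left, f_add_right, f_add_right, hw2, hw3, f2, ← hq]; ring
    have f3 : fS (J *ᵥ u) w = 0 := by rw [S.skew, f2, neg_zero]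
    have h1 := Full.map S.le (S.pair_mem hn 1) hC
    rw [show ((T (u + w) (1 * d) * T (J *ᵥ (u + w)) (-1) : Gs) : Matrix ιS ιS F) *ᵥ u =
        Pl 1 (-q) + (-q) • (J *ᵥ w) by
      rw [gl_mul_mulVec, T_apply, T_apply, hPl]
      simp only [Matrix.mulVec_add, f_add_left, f_add_right, f_smul_left, f_self, f1, f2, f3, S.f_JJ, e7, ← hq,
        S.skew w u, hw2, S.skew w w, hw3, S.f_Jx]
      module] at h1
    intro x y ν hxy
    have := hline ((-q) • (J *ᵥ w)) 1 (-q) (by rw [f_smul_left, S.skew, hw2]; ring)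
      (by rw [f_smul_left, S.f_JJ, hw1]; ring) (Or.inl one_ne_zero) h1 x y (-(ν / q)) hxy
    rwa [smul_smul, show -(ν / q) * -q = ν by field_simp] at this
  obtain ⟨v', hv'⟩ : ∃ v', v' = a • v + b • (J *ᵥ v) := ⟨_, rfl⟩
  have g1 : fS v' u = 0 := by rw [hv', f_add_left, f_smul_left, f_smul_left, R.vu, e4]; ring
  have g2 : fS v' (J *ᵥ u) = 0 := by rw [hv', f_add_left, f_smul_left, f_smul_left, R.vJu, e6]; ring
  have g3 : fS v' (J *ᵥ v') = -q := by
    rw [hv', Matrix.mulVec_add, Matrix.mulVec_smul, Matrix.mulVec_smul, S.sq]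
    simp only [f_add_left, f_add_right, f_smul_left, f_smul_right, f_self, hvv, e8]
    linear_combination (-q) * hab
  have L1 := hget v R.vu R.vJu hvv
  have L2 := hget v' g1 g2 g3
  have hJv' : J *ᵥ v' = a • (J *ᵥ v) + (b * d) • v := by
    rw [hv', Matrix.mulVec_add, Matrix.mulVec_smul, Matrix.mulVec_smul, S.sq, smul_smul]
  rw [hJv'] at L2
  obtain ⟨κ, hκ⟩ : ∃ κ, κ = q * (b * d) := ⟨_, rfl⟩
  have hss : fS (J *ᵥ v) (a • (J *ᵥ v) + (b * d) • v) = κ := by
    rw [f_add_right, f_smul_right, f_smul_right, f_self, e8, hκ]; ring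
  have hκ0 : κ ≠ 0 := hκ ▸ mul_ne_zero hq0 (mul_ne_zero hb S.d0)
  obtain ⟨s, hs⟩ : ∃ s, s = J *ᵥ v := ⟨_, rfl⟩
  obtain ⟨s', hs'⟩ : ∃ s', s' = a • (J *ᵥ v) + (b * d) • v := ⟨_, rfl⟩
  rw [← hs', ← hs] at hss
  rw [← hs'] at L2
  rw [← hs] at L1
  have hsPl : ∀ x y, fS (Pl x y) s = 0 ∧ fS (Pl x y) s' = 0 ∧ fS s (Pl x y) = 0 := fun x y => by
    simp only [hPl, hs, hs', f_add_left, f_add_right, f_smul_left, f_smul_right, e1, e2, e3, e4, e5, e6]
    ring_nf
    simp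
  have hmix : ∀ x y x' y' μ ν, fS (Pl x y + μ • s) (Pl x' y' + ν • s') = q * (x * y' - x' * y) + μ * ν * κ := by
    intro x y x' y' μ ν
    rw [f_add_left, f_add_right, f_add_right, f_smul_right, f_smul_right, f_smul_left, f_smul_left, hfPl,
      (hsPl x y).2.1, (hsPl x' y').2.2, hss]
    ring
  refine spGL_le_of_full fun z => ?_
  -- coordinates
  obtain ⟨x, y, μ, ν, hz⟩ : ∃ x y μ ν, z = Pl x y + (μ • s + ν • s') := by
    refine ⟨q⁻¹ * fS z (J *ᵥ u), -(q⁻¹ * fS z u), q⁻¹ * fS z v + a * (q⁻¹ * fS z (J *ᵥ v)) / (b * d),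
      -(q⁻¹ * fS z (J *ᵥ v)) / (b * d), ?_⟩
    conv_lhs => rw [S.expand R z, ← hq]
    simp only [hPl, hs, hs']
    have := S.d0
    match_scalars <;> field_simp <;> ring
  have hdiag : Full K ((1 : F) • s + (1 : F) • s') ∧ Full K ((1 : F) • s + (-1 : F) • s') := by
    constructor
    · have := Full.plane S.le (L1 1 0 1 (Or.inl one_ne_zero)) (L2 (-1) 0 1 (Or.inl (neg_ne_zero.mpr one_ne_zero)))
        (by rw [hmix]; simpa using hκ0) 1 1
      rwa [show (1 : F) • (Pl 1 0 + (1 : F) • s) + (1 : F) • (Pl (-1) 0 + (1 : F) • s') =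
        (1 : F) • s + (1 : F) • s' by simp only [hPl]; module] at this
    · have := Full.plane S.le (L1 1 0 1 (Or.inl one_ne_zero)) (L2 1 0 1 (Or.inl one_ne_zero))
        (by rw [hmix]; simpa using hκ0) 1 (-1)
      rwa [show (1 : F) • (Pl 1 0 + (1 : F) • s) + (-1 : F) • (Pl 1 0 + (1 : F) • s') =
        (1 : F) • s + (-1 : F) • s' by simp only [hPl]; module] at this
  by_cases hxy : x ≠ 0 ∨ y ≠ 0
  · obtain ⟨t, ht0, ht⟩ : ∃ t : F, t ≠ 0 ∧ t + μ * ν * κ ≠ 0 := by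
      by_cases h : (1 : F) + μ * ν * κ = 0
      · exact ⟨-1, neg_ne_zero.mpr one_ne_zero, fun e => S.h2 (by linear_combination h - e)⟩
      · exact ⟨1, one_ne_zero, h⟩
    obtain ⟨x₁, y₁, h1⟩ : ∃ x₁ y₁, x₁ * y - x * y₁ = t / q := by
      rcases hxy with hx | hy
      · exact ⟨0, -(t / q) / x, by field_simp; ring⟩
      · exact ⟨(t / q) / y, 0, by field_simp; ring⟩
    have hq1 : q * (x₁ * y - x * y₁) = t := by rw [h1]; field_simp
    have hA : x₁ ≠ 0 ∨ y₁ ≠ 0 := by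
      by_contra hcon
      push Not at hcon
      exact ht0 (by rw [← hq1, hcon.1, hcon.2]; ring)
    have hB : x - x₁ ≠ 0 ∨ y - y₁ ≠ 0 := by
      by_contra hcon
      push Not at hcon
      exact ht0 (by rw [← hq1, ← sub_eq_zero.mp hcon.1, ← sub_eq_zero.mp hcon.2]; ring)
    have := Full.plane S.le (L1 x₁ y₁ μ hA) (L2 (x - x₁) (y - y₁) ν hB) (by
      rw [hmix]; exact fun e => ht (by rw [← e, ← hq1]; ring)) 1 1
    rwa [show z = (1 : F) • (Pl x₁ y₁ + μ • s) + (1 : F) • (Pl (x - x₁) (y - y₁) + ν • s') by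
      rw [hz]; simp only [hPl]; module]
  · push Not at hxy
    have h2' := S.h2
    have := Full.plane S.le hdiag.1 hdiag.2 (by
      simp only [f_add_left, f_add_right, f_smul_left, f_smul_right, f_self, hss, f_skew s' s]
      ring_nf
      simpa using mul_ne_zero hκ0 S.h2) ((μ + ν) / 2) ((μ - ν) / 2)
    rwa [show z = ((μ + ν) / 2) • ((1 : F) • s + (1 : F) • s') + ((μ - ν) / 2) • ((1 : F) • s + (-1 : F) • s') by
      rw [hz, hxy.1, hxy.2]; simp only [hPl]; match_scalars <;> field_simp <;> ring]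

/-- A centre on the quadric, outside the eigenspaces. -/
theorem all_of_pt {w : Vs} (W : Pt J w) (hC : Full K w) : spGL 2 F ≤ K := by
  have hd : fS w (J *ᵥ w) = 0 := W.null
  obtain ⟨x, hx1, hx2⟩ := (perp_plane hd W.indep W.ne).2 0 1
  rw [S.skew] at hx2
  -- a vector with value not zero
  obtain ⟨u, hu1, hu2, hu3⟩ : ∃ u, fS w u = 0 ∧ fS w (J *ᵥ u) = -1 ∧ fS u (J *ᵥ u) ≠ 0 := by
    have e1 : fS w (J *ᵥ x) = -1 := by linear_combination -hx2
    by_cases h : fS x (J *ᵥ x) = 0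
    · refine ⟨x + w, by rw [f_add_right, hx1, f_self, add_zero], by rw [Matrix.mulVec_add, f_add_right, e1, hd, add_zero], ?_⟩
      rw [Matrix.mulVec_add, f_add_left, f_add_right, f_add_right, h, hd, S.f_J_self, e1]
      intro e
      exact S.h2 (by linear_combination -e)
    · exact ⟨x, hx1, e1, h⟩
  obtain ⟨a, b, hab, hb, ha⟩ := S.exists_norm_one
  obtain ⟨g, hg, hgx⟩ := S.exists_rot hu3 hab
  have h1 := Full.map S.le hg hC
  obtain ⟨q, hq⟩ : ∃ q, q = fS u (J *ᵥ u) := ⟨_, rfl⟩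
  have hq0 : q ≠ 0 := hq ▸ hu3
  rw [hgx, hu1, hu2, ← hq] at h1
  have e0 : fS w ((q⁻¹ * ((a - 1) * -1 - b * d * 0)) • u) = 0 := by rw [f_smul_right, hu1, mul_zero]
  have h3 := Full.plane S.le hC h1 (by
    simp only [f_add_right, f_smul_right, f_self, hu1, hu2]
    field_simp
    ring_nf
    simpa using And.intro hb hq0) 1 1
  refine S.all_of_nonnull ?_ h3
  have e3 : fS u (J *ᵥ w) = -1 := by rw [S.f_J_self, hu2]
  simp only [one_smul, Matrix.mulVec_add, Matrix.mulVec_smul, S.sq, f_add_left, f_add_right, f_smul_left, f_smul_right,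
    f_self, hd, hu1, hu2, e3, S.skew, ← hq, f_skew u w]
  intro e
  field_simp at e
  have : (2 : F) * ((a - 1) * q) = 0 := by linear_combination e - q * hab
  simp [S.h2, sub_ne_zero.mpr ha, hq0] at this

/-- The orthogonal point and the frame of an eigenvector. -/
theorem exists_opp {w : Vs} {ε : F} (hw : w ≠ 0) (he : J *ᵥ w = ε • w) :
    ε * ε = d ∧ ∃ b' v, fS w b' ≠ 0 ∧ J *ᵥ b' = -ε • b' ∧ Frm J (w + b') v := by
  have hε : ε * ε = d := smul_left_injective F hw (by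
    have := S.sq w
    rw [he, Matrix.mulVec_smul, he, smul_smul] at this
    exact this)
  have hε0 : ε ≠ 0 := fun h => S.d0 (by rw [← hε, h, zero_mul])
  obtain ⟨x, hx⟩ : ∃ x, fS w x ≠ 0 := by
    by_contra hcon
    push Not at hcon
    exact hw (f_nd fun x => by rw [f_skew, hcon, neg_zero])
  obtain ⟨b', hb'⟩ : ∃ b', b' = x - ε⁻¹ • (J *ᵥ x) := ⟨_, rfl⟩
  have hwJ : fS w (J *ᵥ x) = -(ε * fS w x) := by rw [← f_smul_left, ← he, S.skew, neg_neg]
  have h1 : fS w b' ≠ 0 := by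
    rw [hb', f_sub_right, f_smul_right, hwJ,
      show fS w x - ε⁻¹ * -(ε * fS w x) = 2 * fS w x by field_simp; ring]
    exact mul_ne_zero S.h2 hx
  have h3 : J *ᵥ b' = -ε • b' := by
    rw [hb', Matrix.mulVec_sub, Matrix.mulVec_smul, S.sq]
    match_scalars <;> field_simp
    linear_combination hε
  refine ⟨hε, b', ?_⟩
  obtain ⟨v, R⟩ := S.exists_frame (u := w + b') (by
    rw [Matrix.mulVec_add, he, h3]
    simp only [f_add_left, f_add_right, f_smul_right, f_self, f_skew b' w]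
    intro e
    have : (2 : F) * (ε * fS w b') = 0 := by linear_combination -e
    simp [S.h2, hε0, h1] at this)
  exact ⟨v, h1, h3, R⟩

/-- A centre which is an eigenvector. -/
theorem all_of_eigen {w : Vs} {ε : F} (hw : w ≠ 0) (he : J *ᵥ w = ε • w) (hC : Full K w) : spGL 2 F ≤ K := by
  obtain ⟨hε, b', v, h1, h3, R⟩ := S.exists_opp hw he
  have hε0 : ε ≠ 0 := fun h => S.d0 (by rw [← hε, h, zero_mul])
  obtain ⟨g, hg, hgu, hgJ⟩ := S.exists_anti R hε
  have hwu : w = (2⁻¹ : F) • (w + b') + (2⁻¹ * ε⁻¹) • (J *ᵥ (w + b')) := by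
    have := S.h2
    rw [Matrix.mulVec_add, he, h3]
    match_scalars <;> field_simp <;> ring
  have h4 := Full.map S.le hg hC
  rw [show (g : Matrix ιS ιS F) *ᵥ w = b' by
    have := S.h2
    conv_lhs => rw [hwu]
    rw [Matrix.mulVec_add, Matrix.mulVec_smul, Matrix.mulVec_smul, hgu, hgJ, Matrix.mulVec_add, he, h3]
    match_scalars <;> field_simp <;> ring] at h4
  have h5 := Full.plane S.le hC h4 h1 1 1
  rw [one_smul, one_smul] at h5
  exact S.all_of_nonnull R.ne h5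

end Skew

end Cfsg.Agent.Classical.SpFourOdd
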