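/-
A skew map of square a nonzero scalar on the symplectic four-space: its normaliser is maximal among the isometries.
-/
import Cfsg.Agent.Lib.Classical.SpFourOdd.Skew

set_option autoImplicit false
set_option linter.unusedSectionVars false
set_option linter.style.haveILetI false

namespace Cfsg.Agent.Classical.SpFourOdd

open Matrix Cfsg.Geo
open Cfsg.Agent.Classical

variable {F : Type*} [Field F] [Fintype F]

local notation "ιS" => Fin 2 ⊕ Fin 2
local notation "Vs" => Fin 2 ⊕ Fin 2 → F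
local notation "Gs" => GL (Fin 2 ⊕ Fin 2) F
local notation "fS" => Cfsg.sympForm 2 F

variable {J : Matrix (Fin 2 ⊕ Fin 2) (Fin 2 ⊕ Fin 2) F} {d : F} {K : Subgroup (GL (Fin 2 ⊕ Fin 2) F)}

/-- `z` is a combination of `a` and `b`. -/
def In2 (a b z : Fin 2 ⊕ Fin 2 → F) : Prop := ∃ p r : F, z = p • a + r • b

theorem In2.left (a b : Vs) : In2 a b a := ⟨1, 0, by module⟩
theorem In2.right (a b : Vs) : In2 a b b := ⟨0, 1, by module⟩

theorem In2.comb {a b y z : Vs} (hy : In2 a b y) (hz : In2 a b z) (s t : F) : In2 a b (s • y + t • z) := by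
  obtain ⟨p, r, rfl⟩ := hy
  obtain ⟨p', r', rfl⟩ := hz
  exact ⟨s * p + t * p', s * r + t * r', by module⟩

theorem In2.iso {a b y z : Vs} (h : fS a b = 0) (hy : In2 a b y) (hz : In2 a b z) : fS y z = 0 := by
  obtain ⟨p, r, rfl⟩ := hy
  obtain ⟨p', r', rfl⟩ := hz
  simp only [f_add_left, f_add_right, f_smul_left, f_smul_right, f_self, h, f_skew b a]
  ring

/-- A vector of a plane not invariant under `J` is not orthogonal to the invariant plane through a common point. -/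
theorem not_perp {A B w e h : Vs} (hAB : fS A B = 0) (hne : ¬ (In2 A B (J *ᵥ A) ∧ In2 A B (J *ᵥ B)))
    (hwe : fS w e = 0) (hw : w ≠ 0) (hind : ∀ c : F, e ≠ c • w) (hJw : In2 w e (J *ᵥ w)) (hJe : In2 w e (J *ᵥ e))
    (hwP : In2 A B w) (hhP : In2 A B h) (hhind : ∀ c : F, h ≠ c • w) : fS e h ≠ 0 := by
  intro h0
  have hperp := (perp_plane hwe hind hw).1
  obtain ⟨p, r, hpr⟩ := hperp h (In2.iso hAB hwP hhP) h0
  have hr : r ≠ 0 := fun e' => hhind p (by rw [hpr, e', zero_smul, add_zero])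
  have heP : In2 A B e := by
    have := hhP.comb hwP r⁻¹ (-(r⁻¹ * p))
    rwa [show r⁻¹ • h + -(r⁻¹ * p) • w = e by rw [hpr]; match_scalars <;> field_simp <;> ring] at this
  have hin : ∀ z, In2 A B z → In2 w e z := fun z hz =>
    hperp z (In2.iso hAB hwP hz) (In2.iso hAB heP hz)
  have hout : ∀ z, In2 w e z → In2 A B z := fun z hz => by
    obtain ⟨s, t, rfl⟩ := hz
    exact hwP.comb heP s t
  have hJ : ∀ z, In2 w e z → In2 w e (J *ᵥ z) := fun z hz => by
    obtain ⟨s, t, rfl⟩ := hz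
    rw [Matrix.mulVec_add, Matrix.mulVec_smul, Matrix.mulVec_smul]
    exact hJw.comb hJe s t
  exact hne ⟨hout _ (hJ _ (hin _ (In2.left A B))), hout _ (hJ _ (hin _ (In2.right A B)))⟩

namespace Skew

variable (S : Skew J d K)

include S

/-- A group of the point `w` inside the normaliser. -/
def Grp (_S : Skew J d K) (w e : Fin 2 ⊕ Fin 2 → F) : Prop :=
  (∀ a : F, T w (a * -d) * T e a ∈ K) ∨ ∀ c : F, E w (c • e) ∈ K

theorem Grp.map {w e : Vs} (h : Grp S w e) {g : Gs} (hg : g ∈ K) :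
    Grp S ((g : Matrix ιS ιS F) *ᵥ w) ((g : Matrix ιS ιS F) *ᵥ e) := by
  rcases h with h | h
  · refine Or.inl fun a => ?_
    have := mul_mem (mul_mem hg (h a)) (inv_mem hg)
    rwa [show g * (T w (a * -d) * T e a) * g⁻¹ = g * T w (a * -d) * g⁻¹ * (g * T e a * g⁻¹) by group,
      T_conj (S.le hg), T_conj (S.le hg)] at this
  · refine Or.inr fun c => ?_
    have := mul_mem (mul_mem hg (h c)) (inv_mem hg)
    rwa [E_conj S.h2 (S.le hg), Matrix.mulVec_smul] at this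

theorem grp_pt {x : Vs} (hx : fS x (J *ᵥ x) = 0) : Grp S x (J *ᵥ x) := Or.inl fun a => by
  have := S.pair_mem hx (-a)
  rwa [neg_neg, show -a * d = a * -d by ring] at this

theorem full_of_grps {w e h : Vs} (h1 : Grp S w e) (h2 : Grp S w h) (he : fS w e = 0) (hh : fS w h = 0)
    (hne : fS e h ≠ 0) : Full K w := by
  have hne' : fS h e ≠ 0 := by rwa [f_skew, neg_ne_zero]
  rcases h1 with h1 | h1 <;> rcases h2 with h2 | h2
  · exact full_gg S.h2 S.h5 he hh hne (neg_ne_zero.mpr S.d0) h1 h2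
  · exact full_dg S.h2 S.le hh he hne' one_ne_zero h2 (h1 1)
  · exact full_dg S.h2 S.le he hh hne one_ne_zero h1 (h2 1)
  · exact full_dd S.h2 he hh hne' h1 h2

/-- The invariant plane at a point of a plane, with its group. -/
theorem exists_grp {A B w : Vs} (hwP : In2 A B w) (hw : w ≠ 0) (hn : fS w (J *ᵥ w) = 0) :
    ∃ e, fS w e = 0 ∧ (∀ c : F, e ≠ c • w) ∧ In2 w e (J *ᵥ w) ∧ In2 w e (J *ᵥ e) ∧ Grp S w e := by
  by_cases heig : ∀ c : F, J *ᵥ w ≠ c • w
  · exact ⟨J *ᵥ w, hn, heig, In2.right _ _, ⟨d, 0, by rw [S.sq]; module⟩, S.grp_pt hn⟩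
  push Not at heig
  obtain ⟨ε, he⟩ := heig
  obtain ⟨hε, b', v, h1, h3, R⟩ := S.exists_opp hw he
  have hε0 : ε ≠ 0 := fun h => S.d0 (by rw [← hε, h, zero_mul])
  obtain ⟨e1, e2, e3, e4, e5, e6, e7, e8⟩ := S.frm_facts R
  have hwu : w = (2⁻¹ : F) • (w + b') + (2⁻¹ * ε⁻¹) • (J *ᵥ (w + b')) := by
    have := S.h2
    rw [Matrix.mulVec_add, he, h3]
    match_scalars <;> field_simp <;> ring
  obtain ⟨b, hb⟩ : ∃ b, b = v - ε⁻¹ • (J *ᵥ v) := ⟨_, rfl⟩
  have hJb : J *ᵥ b = -ε • b := by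
    rw [hb, Matrix.mulVec_sub, Matrix.mulVec_smul, S.sq]
    match_scalars <;> field_simp
    linear_combination hε
  have hwb : fS w b = 0 := by
    rw [hwu, hb, f_sub_right, f_smul_right, f_add_left ((2⁻¹ : F) • (w + b')), f_add_left ((2⁻¹ : F) • (w + b'))]
    simp only [f_smul_left, e1, e2, e3, e5]
    ring
  have hb0 : b ≠ 0 := fun h => R.ne (by
    rw [hb, sub_eq_zero] at h
    have := R.vJv
    rw [show J *ᵥ v = ε • v by
      conv_rhs => rw [h]
      rw [smul_smul, mul_inv_cancel₀ hε0, one_smul], f_smul_right, f_self, mul_zero] at this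
    exact neg_eq_zero.mp this.symm)
  have hind : ∀ c : F, b ≠ c • w := fun c h => hb0 (by
    have := hJb
    rw [h, Matrix.mulVec_smul, he, smul_smul, smul_smul] at this
    have hc := smul_left_injective F hw this
    have hc0 : c = 0 := by
      have : (2 * ε) * c = 0 := by linear_combination hc
      exact (mul_eq_zero.mp this).resolve_left (mul_ne_zero S.h2 hε0)
    rw [h, hc0, zero_smul])
  refine ⟨b, hwb, hind, ⟨ε, 0, by rw [he]; module⟩, ⟨0, -ε, by rw [hJb]; module⟩, Or.inr fun c => ?_⟩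
  have hx : fS (w + b) (J *ᵥ (w + b)) = 0 := by
    rw [Matrix.mulVec_add, he, hJb]
    simp only [f_add_left, f_add_right, f_smul_right, f_self, hwb, f_skew b w]
    ring
  have := (S.eigen_mem hx (p := 2⁻¹) (r := 2⁻¹ * ε⁻¹) (by rw [← hε]; field_simp)
    (mul_ne_zero (inv_ne_zero S.h2) (inv_ne_zero hε0)) c).2
  have h2' := S.h2
  rwa [show (2⁻¹ : F) • (w + b) + (2⁻¹ * ε⁻¹) • (J *ᵥ (w + b)) = w by
      rw [Matrix.mulVec_add, he, hJb]; match_scalars <;> field_simp <;> ring,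
    show (2⁻¹ : F) • (w + b) - (2⁻¹ * ε⁻¹) • (J *ᵥ (w + b)) = b by
      rw [Matrix.mulVec_add, he, hJb]; match_scalars <;> field_simp <;> ring] at this

/-- An element moving an invariant plane off the invariant planes gives all transvections. -/
theorem all_of_move {g : Gs} (hg : g ∈ K) {x : Vs} (X : Pt J x)
    (hne : ¬ (In2 ((g : Matrix ιS ιS F) *ᵥ x) ((g : Matrix ιS ιS F) *ᵥ (J *ᵥ x))
        (J *ᵥ ((g : Matrix ιS ιS F) *ᵥ x)) ∧
      In2 ((g : Matrix ιS ιS F) *ᵥ x) ((g : Matrix ιS ιS F) *ᵥ (J *ᵥ x))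
        (J *ᵥ ((g : Matrix ιS ιS F) *ᵥ (J *ᵥ x))))) : spGL 2 F ≤ K := by
  obtain ⟨A, hA⟩ : ∃ A, A = (g : Matrix ιS ιS F) *ᵥ x := ⟨_, rfl⟩
  obtain ⟨B, hB⟩ : ∃ B, B = (g : Matrix ιS ιS F) *ᵥ (J *ᵥ x) := ⟨_, rfl⟩
  rw [← hA, ← hB] at hne
  have hAB : fS A B = 0 := by rw [hA, hB, iso_of (S.le hg), X.null]
  have hindAB : ∀ p r : F, p • A + r • B = 0 → p = 0 ∧ r = 0 := fun p r h => by
    rw [hA, hB, ← Matrix.mulVec_smul, ← Matrix.mulVec_smul, ← Matrix.mulVec_add,
      ← Matrix.mulVec_zero (g : Matrix ιS ιS F)] at h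
    have h' := gl_mulVec_injective g h
    have hr : r = 0 := by
      by_contra hr
      refine X.indep (-(p / r)) ?_
      linear_combination (norm := skip) r⁻¹ • h'
      match_scalars <;> field_simp <;> ring
    rw [hr, zero_smul, add_zero] at h'
    exact ⟨(smul_eq_zero.mp h').resolve_right X.ne, hr⟩
  by_cases hnull : ∃ w, In2 A B w ∧ w ≠ 0 ∧ fS w (J *ᵥ w) = 0
  · obtain ⟨w, hwP, hw, hn⟩ := hnull
    obtain ⟨e, hwe, heind, hJw, hJe, G1⟩ := S.exists_grp hwP hw hn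
    obtain ⟨p, r, hpr⟩ := hwP
    have hwP : In2 A B w := ⟨p, r, hpr⟩
    obtain ⟨w₀, hw₀⟩ : ∃ w₀, w₀ = p • x + r • (J *ᵥ x) := ⟨_, rfl⟩
    have hgw : (g : Matrix ιS ιS F) *ᵥ w₀ = w := by
      rw [hw₀, hpr, hA, hB, Matrix.mulVec_add, Matrix.mulVec_smul, Matrix.mulVec_smul]
    have hw₀0 : w₀ ≠ 0 := fun e => hw (by rw [← hgw, e, Matrix.mulVec_zero])
    have hnull₀ : fS w₀ (J *ᵥ w₀) = 0 := by
      rw [hw₀, Matrix.mulVec_add, Matrix.mulVec_smul, Matrix.mulVec_smul, S.sq]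
      simp only [f_add_left, f_add_right, f_smul_left, f_smul_right, f_self, X.null, S.f_Jx x]
      ring
    obtain ⟨h₀, hh₀, hh₀ind, hh₀f, G0⟩ : ∃ h₀, In2 x (J *ᵥ x) h₀ ∧ (∀ c : F, h₀ ≠ c • w₀) ∧ fS w₀ h₀ = 0 ∧
        Grp S w₀ h₀ := by
      by_cases heig : ∀ c : F, J *ᵥ w₀ ≠ c • w₀
      · refine ⟨J *ᵥ w₀, ⟨r * d, p, ?_⟩, heig, hnull₀, S.grp_pt hnull₀⟩
        rw [hw₀, Matrix.mulVec_add, Matrix.mulVec_smul, Matrix.mulVec_smul, S.sq]; module
      push Not at heig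
      obtain ⟨ε, he⟩ := heig
      have hli : ∀ s t : F, s • x + t • (J *ᵥ x) = 0 → s = 0 ∧ t = 0 := fun s t h => by
        have ht : t = 0 := by
          by_contra ht
          refine X.indep (-(s / t)) ?_
          linear_combination (norm := skip) t⁻¹ • h
          match_scalars <;> field_simp <;> ring
        rw [ht, zero_smul, add_zero] at h
        exact ⟨(smul_eq_zero.mp h).resolve_right X.ne, ht⟩
      obtain ⟨k1, k2⟩ := hli (r * d - ε * p) (p - ε * r) (by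
        rw [hw₀, Matrix.mulVec_add, Matrix.mulVec_smul, Matrix.mulVec_smul, S.sq] at he
        linear_combination (norm := module) he)
      have hr : r ≠ 0 := fun e => hw₀0 (by
        rw [hw₀, e, show p = 0 by linear_combination k2 + ε * e, zero_smul, zero_smul, add_zero])
      have hpd : p * p = d * (r * r) := by linear_combination p * k2 - r * k1
      refine ⟨p • x - r • (J *ᵥ x), ⟨p, -r, by module⟩, fun c h => ?_, hw₀ ▸ (S.eigen_mem X.null hpd hr 1).1,
        Or.inr fun c => hw₀ ▸ (S.eigen_mem X.null hpd hr c).2⟩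
      obtain ⟨j1, j2⟩ := hli (p - c * p) (-r - c * r) (by rw [hw₀] at h; linear_combination (norm := module) h)
      have hp : p ≠ 0 := fun e => hr (by
        rw [e, zero_mul] at hpd
        exact mul_self_eq_zero.mp ((mul_eq_zero.mp hpd.symm).resolve_left S.d0))
      have hc : c = 1 := by
        have := (mul_eq_zero.mp (show (1 - c) * p = 0 by linear_combination j1)).resolve_right hp
        linear_combination -this
      rw [hc] at j2
      exact hr ((mul_eq_zero.mp (show (2 : F) * r = 0 by linear_combination -j2)).resolve_left S.h2)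
    have G2 := Grp.map S G0 hg
    rw [hgw] at G2
    obtain ⟨h, hh⟩ : ∃ h, h = (g : Matrix ιS ιS F) *ᵥ h₀ := ⟨_, rfl⟩
    rw [← hh] at G2
    have hhP : In2 A B h := by
      obtain ⟨s, t, hst⟩ := hh₀
      exact ⟨s, t, by rw [hh, hst, hA, hB, Matrix.mulVec_add, Matrix.mulVec_smul, Matrix.mulVec_smul]⟩
    have hwh : fS w h = 0 := In2.iso hAB hwP hhP
    have hhind : ∀ c : F, h ≠ c • w := fun c e => hh₀ind c (gl_mulVec_injective g (by
      simp only
      rw [← hh, e, Matrix.mulVec_smul, hgw]))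
    have hfull := S.full_of_grps G1 G2 hwe hwh (not_perp hAB hne hwe hw heind hJw hJe hwP hhP hhind)
    by_cases heig : ∀ c : F, J *ᵥ w ≠ c • w
    · exact S.all_of_pt ⟨hn, hw, heig⟩ hfull
    · push Not at heig
      obtain ⟨ε, he⟩ := heig
      exact S.all_of_eigen hw he hfull
  -- the plane meets the quadric in zero only
  push Not at hnull
  have hA0 : A ≠ 0 := fun e => one_ne_zero (hindAB 1 0 (by rw [e]; module)).1
  have hqA : fS A (J *ᵥ A) ≠ 0 := hnull A (In2.left _ _) hA0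
  obtain ⟨y, R⟩ := S.exists_frame hqA
  obtain ⟨e1, e2, e3, e4, e5, e6, e7, e8⟩ := S.frm_facts R
  obtain ⟨q, hq⟩ : ∃ q, q = fS A (J *ᵥ A) := ⟨_, rfl⟩
  have hq0 : q ≠ 0 := hq ▸ R.ne
  have hy : fS y (J *ᵥ y) ≠ 0 := by rw [R.vJv, neg_ne_zero]; exact R.ne
  obtain ⟨a, b, hab, hb, -⟩ := S.exists_norm_one
  obtain ⟨k₁, hk₁, hk₁x⟩ := S.exists_rot hy hab
  rw [R.vJv, ← hq] at hk₁x
  have hk₁A : (k₁ : Matrix ιS ιS F) *ᵥ A = A := by
    rw [hk₁x, e1, e2]
    module
  obtain ⟨w₂, hw₂⟩ : ∃ w₂, w₂ = B - (q⁻¹ * fS B (J *ᵥ A)) • A := ⟨_, rfl⟩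
  have hw₂P : In2 A B w₂ := ⟨-(q⁻¹ * fS B (J *ᵥ A)), 1, by rw [hw₂]; module⟩
  have hw₂0 : w₂ ≠ 0 := fun e => one_ne_zero (hindAB (-(q⁻¹ * fS B (J *ᵥ A))) 1 (by
    rw [← e, hw₂]; module)).2
  have hfBA : fS B A = 0 := by rw [f_skew, hAB, neg_zero]
  have hw₂e : w₂ = (-(q⁻¹ * fS B (J *ᵥ y))) • y + (q⁻¹ * fS B y) • (J *ᵥ y) := by
    have := S.expand R B
    rw [← hq, hfBA] at this
    rw [hw₂]
    linear_combination (norm := module) this
  have hk₁B : (k₁ : Matrix ιS ιS F) *ᵥ B = B + ((a - 1) • w₂ + b • (J *ᵥ w₂)) := by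
    rw [hk₁x, hw₂e, Matrix.mulVec_add, Matrix.mulVec_smul, Matrix.mulVec_smul, S.sq, add_assoc]
    congr 1
    match_scalars <;> field_simp <;> ring
  have hout : ¬ In2 A B ((k₁ : Matrix ιS ιS F) *ᵥ B) := fun h => by
    have h1 : In2 A B (J *ᵥ w₂) := by
      have := h.comb ((In2.right A B).comb hw₂P 1 (a - 1)) b⁻¹ (-b⁻¹)
      rwa [show b⁻¹ • ((k₁ : Matrix ιS ιS F) *ᵥ B) + -b⁻¹ • ((1 : F) • B + (a - 1) • w₂) = J *ᵥ w₂ by
        rw [hk₁B]; match_scalars <;> field_simp <;> ring] at this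
    exact hnull w₂ hw₂P hw₂0 (In2.iso hAB hw₂P h1)
  obtain ⟨k, hk⟩ : ∃ k, k = g⁻¹ * k₁ * g := ⟨_, rfl⟩
  have hkK : k ∈ K := hk ▸ mul_mem (mul_mem (inv_mem hg) hk₁) hg
  have hkx : (k : Matrix ιS ιS F) *ᵥ x = x := by
    rw [hk, gl_mul_mulVec, gl_mul_mulVec, ← hA, hk₁A, hA, gl_inv_mulVec_cancel]
  have G0 := S.grp_pt X.null
  have G2 := Grp.map S G0 hkK
  rw [hkx] at G2
  have hxh : fS x ((k : Matrix ιS ιS F) *ᵥ (J *ᵥ x)) = 0 := by
    have := iso_of (S.le hkK) x (J *ᵥ x)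
    rwa [hkx, X.null] at this
  refine S.all_of_pt X (S.full_of_grps G0 G2 X.null hxh fun h0 => hout ?_)
  obtain ⟨s, t, hst⟩ := (perp_plane X.null X.indep X.ne).1 _ hxh h0
  refine ⟨s, t, ?_⟩
  rw [show (k₁ : Matrix ιS ιS F) *ᵥ B = (g : Matrix ιS ιS F) *ᵥ ((k : Matrix ιS ιS F) *ᵥ (J *ᵥ x)) by
    rw [hk, gl_mul_mulVec, gl_mul_mulVec, gl_mulVec_inv_cancel, hB], hst, hA, hB, Matrix.mulVec_add, Matrix.mulVec_smul,
    Matrix.mulVec_smul]

theorem exists_nonnull : ∃ u, fS u (J *ᵥ u) ≠ 0 := by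
  by_contra hcon
  push Not at hcon
  have h : ∀ x y, fS x (J *ᵥ y) = 0 := fun x y => by
    have := hcon (x + y)
    rw [Matrix.mulVec_add, f_add_left, f_add_right, f_add_right, hcon, hcon, zero_add, add_zero, S.f_J_self x y,
      ← two_mul] at this
    exact (mul_eq_zero.mp this).resolve_left S.h2
  have hJ : ∀ y, J *ᵥ y = 0 := fun y => f_nd fun x => h x y
  obtain ⟨v, hv⟩ := exists_ne (0 : Vs)
  have := S.sq v
  rw [hJ] at this
  exact smul_ne_zero S.d0 hv this.symm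

/-- Outside the normaliser some invariant plane is moved off the invariant planes. -/
theorem overgroup :
    (∀ g ∈ K, (∀ x, (g : Matrix ιS ιS F) *ᵥ (J *ᵥ x) = J *ᵥ ((g : Matrix ιS ιS F) *ᵥ x)) ∨
      ∀ x, (g : Matrix ιS ιS F) *ᵥ (J *ᵥ x) = -(J *ᵥ ((g : Matrix ιS ιS F) *ᵥ x))) ∨ spGL 2 F ≤ K := by
  by_cases hall : spGL 2 F ≤ K
  · exact Or.inr hall
  refine Or.inl fun g hg => ?_
  obtain ⟨u, hu⟩ := S.exists_nonnull
  obtain ⟨w, R⟩ := S.exists_frame hu
  obtain ⟨e1, e2, e3, e4, e5, e6, e7, e8⟩ := S.frm_facts R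
  obtain ⟨q, hq⟩ : ∃ q, q = fS u (J *ᵥ u) := ⟨_, rfl⟩
  have hq0 : q ≠ 0 := hq ▸ R.ne
  have hww : fS w (J *ᵥ w) = -q := hq ▸ R.vJv
  rw [← hq] at e7 e8
  obtain ⟨v, hv⟩ : ∃ v, v = u + w := ⟨_, rfl⟩
  obtain ⟨v', hv'⟩ : ∃ v', v' = u - w := ⟨_, rfl⟩
  have h2q : (2 : F) * q ≠ 0 := mul_ne_zero S.h2 hq0
  have f1 : fS v v' = 0 := by simp only [hv, hv', f_add_left, f_sub_right, f_self, e1, R.vu]; ring
  have f2 : fS v (J *ᵥ v) = 0 := by
    simp only [hv, Matrix.mulVec_add, f_add_left, f_add_right, e2, R.vJu, hww, ← hq]; ring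
  have f3 : fS v (J *ᵥ v') = 2 * q := by
    simp only [hv, hv', Matrix.mulVec_sub, f_add_left, f_sub_right, e2, R.vJu, hww, ← hq]; ring
  have f4 : fS v' (J *ᵥ v') = 0 := by
    simp only [hv', Matrix.mulVec_sub, f_sub_left, f_sub_right, e2, R.vJu, hww, ← hq]; ring
  have f5 : fS v' (J *ᵥ v) = 2 * q := by rw [S.f_J_self, f3]
  have f6 : fS (J *ᵥ v) v' = -(2 * q) := by rw [S.skew, f3]
  have f7 : fS (J *ᵥ v) (J *ᵥ v') = 0 := by rw [S.f_JJ, f1, mul_zero]
  have f8 : fS v' v = 0 := by rw [f_skew, f1, neg_zero]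
  have f9 : fS (J *ᵥ v') (J *ᵥ v) = 0 := by rw [S.f_JJ, f8, mul_zero]
  have f10 : fS (J *ᵥ v') v = -(2 * q) := by rw [S.skew, f5]
  have f11 : fS (J *ᵥ v) v = 0 := by rw [S.f_Jx, f2, neg_zero]
  have f12 : fS (J *ᵥ v') v' = 0 := by rw [S.f_Jx, f4, neg_zero]
  have X1 : Pt J v := ⟨f2, fun e => h2q (by rw [← f3, e, f_zero_left]), fun c e => h2q (by
    rw [← neg_eq_zero, ← f6, e, f_smul_left, f1, mul_zero])⟩
  have X2 : Pt J v' := ⟨f4, fun e => h2q (by rw [← f5, e, f_zero_left]), fun c e => h2q (by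
    rw [← neg_eq_zero, ← f10, e, f_smul_left, f8, mul_zero])⟩
  obtain ⟨m, hm⟩ : ∃ m, m = v + J *ᵥ v' := ⟨_, rfl⟩
  have hJm : J *ᵥ m = J *ᵥ v + d • v' := by rw [hm, Matrix.mulVec_add, S.sq]
  have X3 : Pt J m := by
    refine ⟨?_, fun e => h2q ?_, fun c e => h2q ?_⟩
    · rw [hJm, hm]
      simp only [f_add_left, f_add_right, f_smul_right, f1, f2, f9, f12]
      ring
    · have := congrArg (fun z => fS z (J *ᵥ v')) (hm.symm.trans e)
      simp only [f_add_left, f3, f_self, f_zero_left, add_zero] at this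
      exact this
    · have := congrArg (fun z => fS z v') (hJm.symm.trans e)
      simp only [hm, f_add_left, f_smul_left, f_self, f6, f1, f12, mul_zero, add_zero] at this
      exact neg_eq_zero.mp this
  obtain ⟨J', hJ'⟩ : ∃ J' : Vs → Vs, ∀ z, J' z = ((g⁻¹ : Gs) : Matrix ιS ιS F) *ᵥ (J *ᵥ ((g : Matrix ιS ιS F) *ᵥ z)) :=
    ⟨_, fun _ => rfl⟩
  have hadd : ∀ y z, J' (y + z) = J' y + J' z := fun y z => by
    simp only [hJ', Matrix.mulVec_add]
  have hsmul : ∀ (c : F) z, J' (c • z) = c • J' z := fun c z => by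
    simp only [hJ', Matrix.mulVec_smul]
  have hskew : ∀ y z, fS (J' y) z = -fS y (J' z) := fun y z => by
    rw [hJ', hJ', ← iso_of (S.le hg) (_ *ᵥ _) z, gl_mulVec_inv_cancel, ← iso_of (S.le hg) y (_ *ᵥ _),
      gl_mulVec_inv_cancel, S.skew]
  have hinv : ∀ z, Pt J z → In2 z (J *ᵥ z) (J' z) ∧ In2 z (J *ᵥ z) (J' (J *ᵥ z)) := fun z Z => by
    by_contra hcon
    refine hall (S.all_of_move hg Z fun h => hcon ?_)
    obtain ⟨⟨a, b, hab⟩, a', b', hab'⟩ := h
    constructor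
    · exact ⟨a, b, by rw [hJ', hab, Matrix.mulVec_add, Matrix.mulVec_smul, Matrix.mulVec_smul, gl_inv_mulVec_cancel,
        gl_inv_mulVec_cancel]⟩
    · exact ⟨a', b', by rw [hJ', hab', Matrix.mulVec_add, Matrix.mulVec_smul, Matrix.mulVec_smul, gl_inv_mulVec_cancel,
        gl_inv_mulVec_cancel]⟩
  obtain ⟨⟨α, β, hα⟩, γ, δ, hγ⟩ := hinv v X1
  obtain ⟨⟨α', β', hα'⟩, γ', δ', hγ'⟩ := hinv v' X2
  obtain ⟨⟨p, r, hp⟩, p', r', hp'⟩ := hinv m X3
  rw [hm, hadd, hα, hγ', ← hm, hJm] at hp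
  rw [hJm, hadd, hsmul, hγ, hα'] at hp'
  have E1 := congrArg (fun z => fS z (J *ᵥ v')) hp
  have E2 := congrArg (fun z => fS z v') hp
  have E3 := congrArg (fun z => fS z v) hp
  have E4 := congrArg (fun z => fS z (J *ᵥ v)) hp
  have E5 := congrArg (fun z => fS z (J *ᵥ v')) hp'
  have E6 := congrArg (fun z => fS z v') hp'
  have E7 := congrArg (fun z => fS z v) hp'
  have E8 := congrArg (fun z => fS z (J *ᵥ v)) hp'
  simp only [hm, f_add_left, f_smul_left, f_self, f1, f2, f3, f4, f5, f6, f7, f8, f9, f10, f11, f12] at E1 E2 E3 E4 E5 E6 E7 E8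
  have S1 := hskew v v'
  have S2 := hskew v (J *ᵥ v')
  have S3 := hskew (J *ᵥ v) v'
  rw [hα, hα'] at S1
  rw [hα, hγ'] at S2
  rw [hγ, hα'] at S3
  simp only [f_add_left, f_add_right, f_smul_left, f_smul_right, f1, f2, f3, f4, f5, f6, f7, f8, f9, f10] at S1 S2 S3
  have cancel : ∀ {x y : F}, 2 * q * x = 2 * q * y → x = y := fun h => mul_left_cancel₀ h2q h
  have hαp : α = p := cancel (by linear_combination E1)
  have hβr : β = r := cancel (by linear_combination -E2)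
  have hδp : δ' = p := cancel (by linear_combination -E3)
  have hγr : γ' = d * r := cancel (by linear_combination E4)
  have hββ : β' = β := cancel (by linear_combination S1)
  have hα0 : α = 0 := by
    have : 2 * q * (α + δ') = 0 := by linear_combination S2
    have := (mul_eq_zero.mp this).resolve_left h2q
    have : (2 : F) * α = 0 := by linear_combination this + hαp - hδp
    exact (mul_eq_zero.mp this).resolve_left S.h2
  have hδr : δ = r' := cancel (by linear_combination -E6)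
  have hαr : α' = r' := by
    have : 2 * q * (d * α') = 2 * q * (d * r') := by linear_combination E8
    exact mul_left_cancel₀ S.d0 (cancel this)
  have hδ0 : δ = 0 := by
    have : 2 * q * (δ + α') = 0 := by linear_combination -S3
    have := (mul_eq_zero.mp this).resolve_left h2q
    have : (2 : F) * δ = 0 := by linear_combination this + hδr - hαr
    exact (mul_eq_zero.mp this).resolve_left S.h2
  have hγp : γ = p' := cancel (by linear_combination E5)
  have hβp : d * β' = p' := cancel (by linear_combination -E7)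
  -- so `J'` is a multiple of `J`
  have k1 : J' v = β • (J *ᵥ v) := by rw [hα, hα0]; module
  have k2 : J' (J *ᵥ v) = β • (d • v) := by rw [hγ, hδ0, hγp, ← hβp, hββ]; module
  have k3 : J' v' = β • (J *ᵥ v') := by rw [hα', hββ, hαr, ← hδr, hδ0]; module
  have k4 : J' (J *ᵥ v') = β • (d • v') := by rw [hγ', hγr, ← hβr, hδp, ← hαp, hα0]; module
  have h2' := S.h2
  have hu' : u = (2⁻¹ : F) • v + (2⁻¹ : F) • v' := by rw [hv, hv']; match_scalars <;> field_simp <;> ring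
  have hw' : w = (2⁻¹ : F) • v + (-2⁻¹ : F) • v' := by rw [hv, hv']; match_scalars <;> field_simp <;> ring
  have hspan : ∀ z, J' z = β • (J *ᵥ z) := fun z => by
    rw [S.expand R z, hu', hw']
    simp only [Matrix.mulVec_add, Matrix.mulVec_smul, hadd, hsmul, k1, k2, k3, k4, S.sq]
    module
  have hfin : ∀ z, J *ᵥ ((g : Matrix ιS ιS F) *ᵥ z) = β • ((g : Matrix ιS ιS F) *ᵥ (J *ᵥ z)) := fun z => by
    have := congrArg ((g : Matrix ιS ιS F) *ᵥ ·) (hspan z)
    simp only [hJ', gl_mulVec_inv_cancel, Matrix.mulVec_smul] at this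
    exact this
  have hβ : β * β = 1 := by
    have h := hfin v
    have h' := congrArg (J *ᵥ ·) h
    simp only [S.sq, Matrix.mulVec_smul] at h'
    rw [hfin, S.sq, Matrix.mulVec_smul, smul_smul, smul_smul] at h'
    have hgv : (g : Matrix ιS ιS F) *ᵥ v ≠ 0 := fun e => X1.ne (gl_mulVec_injective g (e.trans (Matrix.mulVec_zero _).symm))
    have := smul_left_injective F hgv h'
    exact mul_left_cancel₀ S.d0 (by linear_combination -this)
  rcases mul_self_eq_one_iff.mp hβ with h | h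
  · exact Or.inl fun z => by rw [hfin, h, one_smul]
  · exact Or.inr fun z => by rw [hfin, h, neg_one_smul, neg_neg]

end Skew

end Cfsg.Agent.Classical.SpFourOdd
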