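/-
The stabilisers of two complementary totally isotropic planes and the normalisers of adjoint-closed quadratic
subfields are maximal in the symplectic group of dimension four, for an odd number, at least five, of scalars.
-/
import Cfsg.Agent.Lib.Classical.SpFourOdd.SkewMain
import Cfsg.Agent.Lib.Classical.TSPairMaximal
import Cfsg.Agent.Lib.Classical.UInSpMaximal

set_option autoImplicit false
set_option linter.unusedSectionVars false
set_option linter.style.haveILetI false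

namespace Cfsg.Agent.Classical.SpFourOdd

open Matrix Cfsg.Geo
open Cfsg.Agent.Classical

variable {F : Type*} [Field F] [Fintype F]

local notation "ιS" => Fin 2 ⊕ Fin 2
local notation "Vs" => Fin 2 ⊕ Fin 2 → F
local notation "Gs" => GL (Fin 2 ⊕ Fin 2) F
local notation "fS" => Cfsg.sympForm 2 F

/-- The subgroup of elements commuting or anticommuting with a skew map is maximal. -/
theorem isMaximal_skew (h2 : (2 : F) ≠ 0) (h5 : 5 ≤ Fintype.card F)
    {J : Matrix (Fin 2 ⊕ Fin 2) (Fin 2 ⊕ Fin 2) F} {d : F} (hd : d ≠ 0) (hsq : ∀ x, J *ᵥ (J *ᵥ x) = d • x)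
    (hskew : ∀ x y, fS (J *ᵥ x) y = -fS x (J *ᵥ y)) (N : Subgroup (GL (Fin 2 ⊕ Fin 2) F))
    (hN : ∀ g ∈ spGL 2 F, g ∈ N ↔ ((∀ x, (g : Matrix ιS ιS F) *ᵥ (J *ᵥ x) = J *ᵥ ((g : Matrix ιS ιS F) *ᵥ x)) ∨
      ∀ x, (g : Matrix ιS ιS F) *ᵥ (J *ᵥ x) = -(J *ᵥ ((g : Matrix ιS ιS F) *ᵥ x)))) :
    IsMaximalIn (spGL 2 F) (N ⊓ spGL 2 F) := by
  have mk : ∀ M : Subgroup Gs, N ⊓ spGL 2 F ≤ M → M ≤ spGL 2 F → Skew J d M := fun M hM hMS =>
    ⟨h2, h5, hd, hsq, hskew, hMS, fun g hg h => hM ⟨(hN g hg).mpr h, hg⟩⟩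
  refine ⟨lt_of_le_of_ne inf_le_right fun e => ?_, fun M hM hMS => ?_⟩
  · obtain ⟨u, hu⟩ := (mk _ le_rfl inf_le_right).exists_nonnull
    have ht := (hN _ (T_mem u (1 : F))).mp ((e.symm ▸ T_mem u (1 : F) : T u (1 : F) ∈ N ⊓ spGL 2 F)).1
    have hJu : fS (J *ᵥ u) u ≠ 0 := by rwa [f_skew, neg_ne_zero]
    have hu0 : u ≠ 0 := fun e => hu (by rw [e, f_zero_left])
    rcases ht with h | h
    · have := h u
      rw [T_apply, T_apply, f_self, mul_zero, zero_smul, add_zero, one_mul, add_eq_left] at this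
      exact hJu ((smul_eq_zero.mp this).resolve_right hu0)
    · have := h u
      rw [T_apply, T_apply, f_self, mul_zero, zero_smul, add_zero, one_mul] at this
      have h3 := congrArg (fun z => fS u z) this
      simp only [f_add_right, f_smul_right, f_self, f_neg_right, mul_zero, add_zero] at h3
      exact mul_ne_zero h2 hu (by linear_combination h3)
  rcases (mk M hM hMS).overgroup with h | h
  · exact Or.inl (le_antisymm (fun g hg => ⟨(hN g (hMS hg)).mpr (h g hg), hMS hg⟩) hM)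
  · exact Or.inr (le_antisymm hMS h)

/-- Two complementary totally isotropic planes. -/
theorem pair_isMaximal (h5 : 5 ≤ Fintype.card F) (hodd : Odd (Fintype.card F))
    (D : Fin 2 → Submodule F (Fin 2 ⊕ Fin 2 → F)) (hD : IsMDecomposition 2 D)
    (hts : ∀ i, IsTotallySingularFor (sympForm 2 F) (D i)) :
    IsMaximalIn (spGL 2 F) (decompositionStabilizer D ⊓ spGL 2 F) := by
  classical
  have h2 : (2 : F) ≠ 0 := two_ne_zero_of_odd_card hodd
  have hc : IsCompl (D 0) (D 1) := by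
    refine ⟨?_, ?_⟩
    · have := hD.indep 0
      exact this.mono_right (le_iSup₂_of_le (f := fun j (_ : j ≠ 0) => D j) 1 (by decide) le_rfl)
    · rw [codisjoint_iff, eq_top_iff, ← hD.iSup_eq_top]
      exact iSup_le fun i => by fin_cases i <;> simp
  obtain ⟨Jl, hJl⟩ : ∃ Jl : Vs →ₗ[F] Vs, ∀ a ∈ D 0, ∀ b ∈ D 1, Jl (a + b) = a - b := by
    refine ⟨(2 : F) • ((D 0).subtype.comp (Submodule.projectionOnto (D 0) (D 1) hc)) - LinearMap.id,
      fun a ha b hb => ?_⟩
    have e1 := Submodule.projectionOnto_apply_left hc ⟨a, ha⟩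
    have e2 : Submodule.projectionOnto (D 0) (D 1) hc b = 0 :=
      (Submodule.projectionOnto_apply_eq_zero_iff hc).mpr hb
    simp only at e1
    simp only [LinearMap.sub_apply, LinearMap.smul_apply, LinearMap.comp_apply, map_add, LinearMap.id_apply, e1, e2,
      map_zero, add_zero, Submodule.subtype_apply]
    module
  obtain ⟨J, hJd⟩ : ∃ J, J = LinearMap.toMatrix' Jl := ⟨_, rfl⟩
  have hJ : ∀ a ∈ D 0, ∀ b ∈ D 1, J *ᵥ (a + b) = a - b := fun a ha b hb => by
    rw [hJd, ← Matrix.toLin'_apply, Matrix.toLin'_toMatrix', hJl a ha b hb]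
  have hdec := TSPair.dec_of hD
  have hplus : ∀ a ∈ D 0, J *ᵥ a = a := fun a ha => by
    simpa using hJ a ha 0 (zero_mem _)
  have hminus : ∀ b ∈ D 1, J *ᵥ b = -b := fun b hb => by
    simpa using hJ 0 (zero_mem _) b hb
  have hmem0 : ∀ x, J *ᵥ x = x → x ∈ D 0 := fun x hx => by
    obtain ⟨a, ha, b, hb, rfl⟩ := hdec x
    rw [hJ a ha b hb] at hx
    have : (2 : F) • b = 0 := by linear_combination (norm := module) -hx
    rw [(smul_eq_zero.mp this).resolve_left h2, add_zero]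
    exact ha
  have hmem1 : ∀ x, J *ᵥ x = -x → x ∈ D 1 := fun x hx => by
    obtain ⟨a, ha, b, hb, rfl⟩ := hdec x
    rw [hJ a ha b hb] at hx
    have : (2 : F) • a = 0 := by linear_combination (norm := module) hx
    rw [(smul_eq_zero.mp this).resolve_left h2, zero_add]
    exact hb
  refine isMaximal_skew h2 h5 one_ne_zero (J := J) (fun x => ?_) (fun x y => ?_) _ fun g _ => ⟨?_, ?_⟩
  · obtain ⟨a, ha, b, hb, rfl⟩ := hdec x
    rw [hJ a ha b hb, sub_eq_add_neg, hJ a ha (-b) (neg_mem hb)]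
    module
  · obtain ⟨a, ha, b, hb, rfl⟩ := hdec x
    obtain ⟨a', ha', b', hb', rfl⟩ := hdec y
    rw [hJ a ha b hb, hJ a' ha' b' hb']
    simp only [f_add_left, f_add_right, f_sub_left, f_sub_right, hts 0 a ha a' ha', hts 1 b hb b' hb']
    ring
  · rintro ⟨σ, hσ⟩
    have hin : ∀ i, ∀ x ∈ D i, (g : Matrix ιS ιS F) *ᵥ x ∈ D (σ i) := fun i x hx => by
      rw [← hσ i]
      exact Submodule.mem_map.mpr ⟨x, hx, Matrix.toLin'_apply _ _⟩
    have h01 : (σ 0 = 0 ∧ σ 1 = 1) ∨ (σ 0 = 1 ∧ σ 1 = 0) :=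
      (show ∀ π : Equiv.Perm (Fin 2), (π 0 = 0 ∧ π 1 = 1) ∨ (π 0 = 1 ∧ π 1 = 0) by decide) σ
    rcases h01 with ⟨s0, s1⟩ | ⟨s0, s1⟩
    · refine Or.inl fun x => ?_
      obtain ⟨a, ha, b, hb, rfl⟩ := hdec x
      rw [hJ a ha b hb, Matrix.mulVec_sub, Matrix.mulVec_add, hJ _ (s0 ▸ hin 0 a ha) _ (s1 ▸ hin 1 b hb)]
    · refine Or.inr fun x => ?_
      obtain ⟨a, ha, b, hb, rfl⟩ := hdec x
      rw [hJ a ha b hb, Matrix.mulVec_sub, Matrix.mulVec_add, add_comm ((g : Matrix ιS ιS F) *ᵥ a),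
        hJ _ (s1 ▸ hin 1 b hb) _ (s0 ▸ hin 0 a ha)]
      abel
  · rintro (h | h)
    · refine TSPair.stab_of hD (i := 0) (j := 0) (fun x hx => hmem0 _ ?_) (fun x hx => ?_)
      · rw [← h, hplus x hx]
      · rw [show TSPair.o (0 : Fin 2) = 1 by decide] at hx ⊢
        exact hmem1 _ (by rw [← h, hminus x hx, Matrix.mulVec_neg])
    · refine TSPair.stab_of hD (i := 0) (j := 1) (fun x hx => hmem1 _ ?_) (fun x hx => ?_)
      · have := h x
        rw [hplus x hx] at this
        exact (neg_eq_iff_eq_neg.mpr this).symm ▸ rfl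
      · rw [show TSPair.o (0 : Fin 2) = 1 by decide] at hx
        rw [show TSPair.o (1 : Fin 2) = 0 by decide]
        refine hmem0 _ ?_
        have := h x
        rw [hminus x hx, Matrix.mulVec_neg, neg_inj] at this
        exact this.symm

/-- An adjoint-closed quadratic subfield which is not self-adjoint. -/
theorem unitary_isMaximal (h5 : 5 ≤ Fintype.card F) (hodd : Odd (Fintype.card F))
    (K : Subalgebra F (Matrix (Fin 2 ⊕ Fin 2) (Fin 2 ⊕ Fin 2) F)) (hK : IsFieldSubalgebra 2 K)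
    (hac : IsAdjointClosedFor (sympForm 2 F) K) (hnsa : ¬ IsSelfAdjointFor (sympForm 2 F) K) :
    IsMaximalIn (spGL 2 F) (subalgebraNormalizer K ⊓ spGL 2 F) := by
  classical
  have h2 : (2 : F) ≠ 0 := two_ne_zero_of_odd_card hodd
  obtain ⟨k, hk, hkne⟩ : ∃ k ∈ K, ¬ ∀ u v, fS (k *ᵥ u) v = fS u (k *ᵥ v) := by
    by_contra hcon
    push Not at hcon
    exact hnsa hcon
  obtain ⟨k', hk', hka⟩ := hac k hk
  obtain ⟨J, hJdef⟩ : ∃ J, J = k - k' := ⟨_, rfl⟩
  have hJK : J ∈ K := hJdef ▸ sub_mem hk hk'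
  have hkb : ∀ u v, fS (k' *ᵥ u) v = fS u (k *ᵥ v) := fun u v => by
    rw [f_skew, ← hka v u, f_skew, neg_neg]
  have hskew : ∀ x y, fS (J *ᵥ x) y = -fS x (J *ᵥ y) := fun x y => by
    rw [hJdef, Matrix.sub_mulVec, Matrix.sub_mulVec, f_sub_left, f_sub_right, hka, hkb]
    ring
  have hJne : ∀ c : F, J ≠ c • (1 : Matrix ιS ιS F) := by
    intro c e
    refine hkne fun u v => ?_
    have h0 : ∀ x y, (2 * c) * fS x y = 0 := fun x y => by
      have h := hskew x y
      rw [e, Matrix.smul_mulVec, Matrix.one_mulVec, Matrix.smul_mulVec, Matrix.one_mulVec, f_smul_left,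
        f_smul_right] at h
      linear_combination h
    rw [hka]
    have h1 : fS u (k *ᵥ v) - fS u (k' *ᵥ v) = c * fS u v := by
      rw [← f_sub_right, ← Matrix.sub_mulVec, ← hJdef, e, Matrix.smul_mulVec, Matrix.one_mulVec, f_smul_right]
    have h3 := h0 u v
    rw [mul_assoc] at h3
    linear_combination -h1 - (mul_eq_zero.mp h3).resolve_left h2
  have hKspan : ∀ z ∈ K, ∃ a b : F, ∀ x, z *ᵥ x = a • x + b • (J *ᵥ x) := by
    have hli : LinearIndependent F ![(1 : Matrix ιS ιS F), J] :=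
      (LinearIndependent.pair_iff' one_ne_zero).mpr fun c h => hJne c h.symm
    have hle : Submodule.span F (Set.range ![(1 : Matrix ιS ιS F), J]) ≤ Subalgebra.toSubmodule K := by
      rw [Submodule.span_le]
      rintro _ ⟨i, rfl⟩
      fin_cases i
      · exact one_mem K
      · exact hJK
    have heq := Submodule.eq_of_le_of_finrank_eq hle (by
      rw [finrank_span_eq_card hli, Subalgebra.finrank_toSubmodule, hK.finrank_eq, Fintype.card_fin])
    intro z hz
    rw [← Subalgebra.mem_toSubmodule, ← heq, Submodule.mem_span_range_iff_exists_fun] at hz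
    obtain ⟨c, hc⟩ := hz
    exact ⟨c 0, c 1, fun x => by rw [← hc]; simp [Fin.sum_univ_succ, Matrix.add_mulVec, Matrix.smul_mulVec]⟩
  obtain ⟨ν, β, hsq'⟩ := hKspan _ (mul_mem hJK hJK)
  simp only [← Matrix.mulVec_mulVec] at hsq'
  have hβ : β = 0 := by
    by_contra hne
    refine hJne 0 (UInSp.matrix_eq_of_mulVec fun v => ?_)
    rw [zero_smul, Matrix.zero_mulVec]
    refine f_nd fun u => ?_
    have e := congrArg (fun z => fS u z) (hsq' v)
    have e' := congrArg (fun z => fS z v) (hsq' u)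
    simp only [f_add_left, f_add_right, f_smul_left, f_smul_right, hskew, neg_neg] at e e'
    have h' : (2 * β) * fS u (J *ᵥ v) = 0 := by linear_combination e' - e
    exact (mul_eq_zero.mp h').resolve_left (mul_ne_zero h2 hne)
  have hsq : ∀ x, J *ᵥ (J *ᵥ x) = ν • x := fun x => by rw [hsq', hβ, zero_smul, add_zero]
  have hν : ν ≠ 0 := fun e => by
    rcases fieldSubalgebra_mul_eq_zero hK hJK (show J * J = 0 from UInSp.matrix_eq_of_mulVec fun x => by
      rw [← Matrix.mulVec_mulVec, hsq, e, zero_smul, Matrix.zero_mulVec]) with h | h <;>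
      exact hJne 0 (by rw [h, zero_smul])
  refine isMaximal_skew h2 h5 hν hsq hskew _ fun g hg => ⟨fun hn => ?_, fun h => ?_⟩
  · obtain ⟨p, q, hpq⟩ := hKspan _ ((hn J).mp hJK)
    have h1 : ∀ x, (g : Matrix ιS ιS F) *ᵥ (J *ᵥ x) = p • ((g : Matrix ιS ιS F) *ᵥ x) +
        q • (J *ᵥ ((g : Matrix ιS ιS F) *ᵥ x)) := fun x => by
      rw [← hpq, ← Matrix.mulVec_mulVec, gl_inv_mulVec_cancel, ← Matrix.mulVec_mulVec]
    obtain ⟨u, u', hu⟩ : ∃ u u', fS u u' ≠ 0 := by
      obtain ⟨u, hu⟩ := exists_ne (0 : Vs)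
      obtain ⟨⟨x, hx⟩, -⟩ := symp.nondegenerate u hu
      exact ⟨x, u, hx⟩
    have hp : p = 0 := by
      have h := hskew u u'
      rw [← iso_of hg (J *ᵥ u), ← iso_of hg u (J *ᵥ u'), h1, h1] at h
      simp only [f_add_left, f_add_right, f_smul_left, f_smul_right, hskew, iso_of hg] at h
      have : (2 * p) * fS u u' = 0 := by linear_combination h
      exact (mul_eq_zero.mp ((mul_eq_zero.mp this).resolve_right hu)).resolve_left h2
    have h3 : ∀ x, (g : Matrix ιS ιS F) *ᵥ (J *ᵥ x) = q • (J *ᵥ ((g : Matrix ιS ιS F) *ᵥ x)) := fun x => by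
      rw [h1, hp, zero_smul, zero_add]
    have hq : q * q = 1 := by
      obtain ⟨x, hx⟩ := exists_ne (0 : Vs)
      have h := h3 (J *ᵥ x)
      rw [hsq, Matrix.mulVec_smul, h3, Matrix.mulVec_smul, hsq, smul_smul, smul_smul] at h
      have hgx : (g : Matrix ιS ιS F) *ᵥ x ≠ 0 := fun e => hx (gl_mulVec_injective g (e.trans (Matrix.mulVec_zero _).symm))
      exact mul_left_cancel₀ hν (by linear_combination -(smul_left_injective F hgx h))
    rcases mul_self_eq_one_iff.mp hq with e | e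
    · exact Or.inl fun x => by rw [h3, e, one_smul]
    · exact Or.inr fun x => by rw [h3, e, neg_one_smul]
  · have key : ∀ z ∈ K, (g : Matrix ιS ιS F) * z * ((g⁻¹ : Gs) : Matrix ιS ιS F) ∈ K ∧
        ((g⁻¹ : Gs) : Matrix ιS ιS F) * z * (g : Matrix ιS ιS F) ∈ K := by
      obtain ⟨s, hs⟩ : ∃ s : F, ∀ x, (g : Matrix ιS ιS F) *ᵥ (J *ᵥ x) = s • (J *ᵥ ((g : Matrix ιS ιS F) *ᵥ x)) ∧
          s * s = 1 := by
        rcases h with h | h
        · exact ⟨1, fun x => ⟨by rw [h, one_smul], one_mul 1⟩⟩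
        · exact ⟨-1, fun x => ⟨by rw [h, neg_one_smul], by ring⟩⟩
      intro z hz
      obtain ⟨a, b, hab⟩ := hKspan z hz
      have hmem : a • (1 : Matrix ιS ιS F) + (s * b) • J ∈ K :=
        add_mem (K.smul_mem (one_mem K) a) (K.smul_mem hJK _)
      refine ⟨?_, ?_⟩
      · rw [show (g : Matrix ιS ιS F) * z * ((g⁻¹ : Gs) : Matrix ιS ιS F) = a • 1 + (s * b) • J from
          UInSp.matrix_eq_of_mulVec fun x => by
            rw [← Matrix.mulVec_mulVec, ← Matrix.mulVec_mulVec, hab, Matrix.mulVec_add, Matrix.mulVec_smul,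
              Matrix.mulVec_smul, (hs _).1, gl_mulVec_inv_cancel, Matrix.add_mulVec, Matrix.smul_mulVec,
              Matrix.smul_mulVec, Matrix.one_mulVec, smul_smul, mul_comm b s]]
        exact hmem
      · rw [show ((g⁻¹ : Gs) : Matrix ιS ιS F) * z * (g : Matrix ιS ιS F) = a • 1 + (s * b) • J from
          UInSp.matrix_eq_of_mulVec fun x => gl_mulVec_injective g (by
            simp only
            rw [← Matrix.mulVec_mulVec, ← Matrix.mulVec_mulVec, gl_mulVec_inv_cancel, hab, Matrix.add_mulVec,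
              Matrix.smul_mulVec, Matrix.smul_mulVec, Matrix.one_mulVec, Matrix.mulVec_add, Matrix.mulVec_smul,
              Matrix.mulVec_smul, (hs x).1, smul_smul]
            congr 1
            rw [show s * b * s = b * (s * s) by ring, (hs x).2, mul_one])]
        exact hmem
    intro z
    refine ⟨fun hz => (key z hz).1, fun hz => ?_⟩
    have := (key _ hz).2
    simpa [mul_assoc] using this

end Cfsg.Agent.Classical.SpFourOdd
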