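/-
The normalisers of self-adjoint quadratic subfields are maximal in the symplectic group of dimension four, in odd
characteristic.
-/
import Cfsg.Agent.Lib.Classical.SpFourOdd.SkewMax

set_option autoImplicit false
set_option linter.unusedSectionVars false
set_option linter.style.haveILetI false

namespace Cfsg.Agent.Classical.SpFourOdd

open Matrix Cfsg.Geo
open Cfsg.Agent.Classical

variable {F : Type*} [Field F] [Fintype F]

local notation "ιS" => Fin 2 ⊕ Fin 2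
local notation "Vs" => Fin 2 ⊕ Fin 2 → F
local notation "Gs" => GL (Fin 2 ⊕ Fin 2) F
local notation "fS" => Cfsg.sympForm 2 F

/-- The standing situation. -/
structure SelfAdj (J : Matrix (Fin 2 ⊕ Fin 2) (Fin 2 ⊕ Fin 2) F) (d : F) (M : Subgroup (GL (Fin 2 ⊕ Fin 2) F)) :
    Prop where
  h2 : (2 : F) ≠ 0
  sq : ∀ x, J *ᵥ (J *ᵥ x) = d • x
  nsq : ∀ c : F, c * c ≠ d
  adj : ∀ x y, Cfsg.sympForm 2 F (J *ᵥ x) y = Cfsg.sympForm 2 F x (J *ᵥ y)
  le : M ≤ spGL 2 F
  norm : ∀ g ∈ spGL 2 F, (∀ x, (g : Matrix _ _ F) *ᵥ (J *ᵥ x) = J *ᵥ ((g : Matrix _ _ F) *ᵥ x)) → g ∈ M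

namespace SelfAdj

variable {J : Matrix (Fin 2 ⊕ Fin 2) (Fin 2 ⊕ Fin 2) F} {d : F} {M : Subgroup (GL (Fin 2 ⊕ Fin 2) F)}
  (S : SelfAdj J d M)

include S

theorem self_zero (x : Vs) : fS x (J *ᵥ x) = 0 := by
  have h := f_skew x (J *ᵥ x)
  rw [S.adj] at h
  exact (mul_eq_zero.mp (show (2 : F) * fS x (J *ᵥ x) = 0 by linear_combination h)).resolve_left S.h2

theorem indep {x : Vs} (hx : x ≠ 0) (c : F) : J *ᵥ x ≠ c • x := fun e => S.nsq c (by
  have := S.sq x
  rw [e, Matrix.mulVec_smul, e, smul_smul] at this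
  exact smul_left_injective F hx this)

theorem norm_ne_zero {p r : F} (h : ¬ (p = 0 ∧ r = 0)) : r * r - d * (p * p) ≠ 0 := fun e => by
  by_cases hp : p = 0
  · rw [hp] at e
    exact h ⟨hp, mul_self_eq_zero.mp (by linear_combination e)⟩
  · exact S.nsq (r / p) (by field_simp; linear_combination e)

theorem inv2 (z x : Vs) (h : In2 x (J *ᵥ x) z) : In2 x (J *ᵥ x) (J *ᵥ z) := by
  obtain ⟨p, r, rfl⟩ := h
  exact ⟨r * d, p, by rw [Matrix.mulVec_add, Matrix.mulVec_smul, Matrix.mulVec_smul, S.sq]; module⟩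

/-- The unipotent group of an invariant plane. -/
theorem mem1 (z : Vs) (c : F) : E z (c • (J *ᵥ z)) ∈ M := by
  have h0 : fS z (c • (J *ᵥ z)) = 0 := by rw [f_smul_right, S.self_zero, mul_zero]
  refine S.norm _ (mul_mem (T_mem _ _) (T_mem _ _)) fun y => ?_
  rw [E_apply S.h2 h0, E_apply S.h2 h0]
  simp only [Matrix.mulVec_add, Matrix.mulVec_smul, S.sq, f_smul_right, S.adj]
  module

theorem mem2 (z : Vs) (c : F) : T z (c * d) * T (J *ᵥ z) c ∈ M := by
  refine S.norm _ (mul_mem (T_mem _ _) (T_mem _ _)) fun y => ?_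
  simp only [gl_mul_mulVec, T_apply, Matrix.mulVec_add, Matrix.mulVec_smul, f_add_left, f_smul_left, S.sq, S.adj,
    f_smul_right, S.self_zero, f_self]
  module

/-- One centre gives all. -/
theorem all_of_full {w : Vs} (hw : w ≠ 0) (hC : Full M w) : spGL 2 F ≤ M := by
  have off : ∀ w : Vs, w ≠ 0 → Full M w → ∀ y, ¬ In2 w (J *ᵥ w) y → Full M y := by
    intro w hw hC y hy
    obtain ⟨z, hz⟩ : ∃ z, z = y - w := ⟨_, rfl⟩
    have hne : ¬ (fS w z = 0 ∧ fS w (J *ᵥ z) = 0) := by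
      rintro ⟨h1, h3⟩
      rw [← S.adj] at h3
      have := (perp_plane (S.self_zero w) (S.indep hw) hw).1 z h1 h3
      refine hy ?_
      rw [show y = (1 : F) • z + (1 : F) • w by rw [hz]; module]
      exact In2.comb this (In2.left _ _) 1 1
    obtain ⟨p, hp⟩ : ∃ p, p = fS w z := ⟨_, rfl⟩
    obtain ⟨r, hr⟩ : ∃ r, r = fS w (J *ᵥ z) := ⟨_, rfl⟩
    rw [← hp, ← hr] at hne
    have hD := S.norm_ne_zero hne
    obtain ⟨D, hDd⟩ : ∃ D, D = r * r - d * (p * p) := ⟨_, rfl⟩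
    rw [← hDd] at hD
    have hm := mul_mem (S.mem2 z (-p / D)) (S.mem1 z (r / D))
    have := Full.map S.le hm hC
    have h0 : fS z ((r / D) • (J *ᵥ z)) = 0 := by rw [f_smul_right, S.self_zero, mul_zero]
    rwa [show ((T z (-p / D * d) * T (J *ᵥ z) (-p / D) * E z ((r / D) • (J *ᵥ z)) : Gs) : Matrix ιS ιS F) *ᵥ w = y by
      rw [gl_mul_mulVec, E_apply S.h2 h0, gl_mul_mulVec, T_apply, T_apply]
      simp only [f_add_left, f_smul_left, f_smul_right, f_self, ← hp, ← hr, S.self_zero, f_skew (J *ᵥ z) z]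
      rw [show y = w + z by rw [hz]; abel]
      match_scalars <;> field_simp <;> rw [hDd] <;> ring] at this
  refine spGL_le_of_full fun y => ?_
  by_cases hy : In2 w (J *ᵥ w) y
  swap
  · exact off w hw hC y hy
  obtain ⟨w', hw'⟩ : ∃ w', ¬ In2 w (J *ᵥ w) w' := by
    by_contra hcon
    push Not at hcon
    obtain ⟨x, hx1, -⟩ := (perp_plane (S.self_zero w) (S.indep hw) hw).2 1 0
    have := In2.iso (S.self_zero w) (In2.left w (J *ᵥ w)) (hcon x)
    rw [hx1] at this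
    exact one_ne_zero this
  have hw'0 : w' ≠ 0 := fun e => hw' ⟨0, 0, by rw [e]; module⟩
  by_cases hy0 : y = 0
  · intro c
    rw [hy0, ← zero_smul F w, T_smul]
    exact hC _
  refine off w' hw'0 (off w hw hC w' hw') y fun h => hw' ?_
  obtain ⟨p, r, hpr⟩ := h
  have hpr0 : ¬ (p = 0 ∧ r = 0) := fun e => hy0 (by rw [hpr, e.1, e.2]; module)
  have hD : p * p - d * (r * r) ≠ 0 := S.norm_ne_zero fun e => hpr0 ⟨e.2, e.1⟩
  obtain ⟨D, hDd⟩ : ∃ D, D = p * p - d * (r * r) := ⟨_, rfl⟩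
  rw [← hDd] at hD
  have := In2.comb hy (S.inv2 y w hy) (p / D) (-r / D)
  rwa [show (p / D) • y + (-r / D) • (J *ᵥ y) = w' by
    rw [hpr, Matrix.mulVec_add, Matrix.mulVec_smul, Matrix.mulVec_smul, S.sq]
    match_scalars <;> field_simp <;> rw [hDd] <;> ring] at this

/-- Outside the normaliser a plane is moved. -/
theorem overgroup :
    (∀ g ∈ M, (∀ x, (g : Matrix ιS ιS F) *ᵥ (J *ᵥ x) = J *ᵥ ((g : Matrix ιS ιS F) *ᵥ x)) ∨
      ∀ x, (g : Matrix ιS ιS F) *ᵥ (J *ᵥ x) = -(J *ᵥ ((g : Matrix ιS ιS F) *ᵥ x))) ∨ spGL 2 F ≤ M := by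
  by_cases hall : spGL 2 F ≤ M
  · exact Or.inr hall
  refine Or.inl fun g hg => ?_
  obtain ⟨J', hJ'⟩ : ∃ J' : Vs → Vs, ∀ z, J' z = ((g⁻¹ : Gs) : Matrix ιS ιS F) *ᵥ (J *ᵥ ((g : Matrix ιS ιS F) *ᵥ z)) :=
    ⟨_, fun _ => rfl⟩
  have hloc : ∀ x, x ≠ 0 → In2 x (J *ᵥ x) (J' x) := fun x hx => by
    by_contra hcon
    obtain ⟨w, hw⟩ : ∃ w, w = (g : Matrix ιS ιS F) *ᵥ x := ⟨_, rfl⟩
    have hw0 : w ≠ 0 := fun e => hx (gl_mulVec_injective g ((hw.symm.trans e).trans (Matrix.mulVec_zero _).symm))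
    obtain ⟨h, hh⟩ : ∃ h, h = (g : Matrix ιS ιS F) *ᵥ (J *ᵥ x) := ⟨_, rfl⟩
    have hP' : ∀ c : F, E w (c • h) ∈ M := fun c => by
      have := mul_mem (mul_mem hg (S.mem1 x c)) (inv_mem hg)
      rwa [E_conj S.h2 (S.le hg), ← hw, Matrix.mulVec_smul, ← hh] at this
    have hwh : fS w h = 0 := by rw [hw, hh, iso_of (S.le hg), S.self_zero]
    refine hall (S.all_of_full hw0 (full_dd S.h2 (S.self_zero w) hwh (fun h0 => hcon ?_) (S.mem1 w) hP'))
    rw [f_skew, neg_eq_zero] at h0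
    obtain ⟨p, r, hpr⟩ := (perp_plane (S.self_zero w) (S.indep hw0) hw0).1 h hwh h0
    have hr : r ≠ 0 := fun e => S.indep hx p (gl_mulVec_injective g (by
      simp only
      rw [← hh, hpr, e, zero_smul, add_zero, hw, Matrix.mulVec_smul]))
    refine ⟨-(p / r), r⁻¹, gl_mulVec_injective g ?_⟩
    simp only [hJ', gl_mulVec_inv_cancel, Matrix.mulVec_add, Matrix.mulVec_smul, ← hw, ← hh]
    rw [hpr]
    match_scalars <;> field_simp <;> ring
  have hadd : ∀ y z, J' (y + z) = J' y + J' z := fun y z => by simp only [hJ', Matrix.mulVec_add]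
  have hcoef : ∀ x y, x ≠ 0 → y ≠ 0 → ¬ In2 x (J *ᵥ x) y → ∀ a b a' b' : F,
      J' x = a • x + b • (J *ᵥ x) → J' y = a' • y + b' • (J *ᵥ y) → a = a' ∧ b = b' := by
    intro x y hx hy hxy a b a' b' h1 h3
    obtain ⟨p, r, hpr⟩ := hloc (x + y) fun e => hxy ⟨-1, 0, by
      rw [zero_smul, add_zero, neg_one_smul, eq_neg_iff_add_eq_zero, add_comm, e]⟩
    rw [hadd, h1, h3, Matrix.mulVec_add] at hpr
    obtain ⟨u, hu⟩ : ∃ u, u = (a' - p) • y + (b' - r) • (J *ᵥ y) := ⟨_, rfl⟩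
    have huA : In2 x (J *ᵥ x) u := ⟨p - a, r - b, by rw [hu]; linear_combination (norm := module) hpr⟩
    have hzero : a' = p ∧ b' = r := by
      by_contra hne
      have hD : (a' - p) * (a' - p) - d * ((b' - r) * (b' - r)) ≠ 0 :=
        S.norm_ne_zero fun e => hne ⟨sub_eq_zero.mp e.2, sub_eq_zero.mp e.1⟩
      obtain ⟨D, hDd⟩ : ∃ D, D = (a' - p) * (a' - p) - d * ((b' - r) * (b' - r)) := ⟨_, rfl⟩
      rw [← hDd] at hD
      have := In2.comb huA (S.inv2 u x huA) ((a' - p) / D) (-(b' - r) / D)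
      rw [show ((a' - p) / D) • u + (-(b' - r) / D) • (J *ᵥ u) = y by
        rw [hu, Matrix.mulVec_add, Matrix.mulVec_smul, Matrix.mulVec_smul, S.sq]
        match_scalars <;> field_simp <;> rw [hDd] <;> ring] at this
      exact hxy this
    have hx' : (a - p) • x + (b - r) • (J *ᵥ x) = 0 := by
      rw [hzero.1, hzero.2] at hpr
      linear_combination (norm := module) hpr
    have hb : b = r := by
      by_contra hb
      refine S.indep hx (-((a - p) / (b - r))) ?_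
      have := sub_ne_zero.mpr hb
      linear_combination (norm := skip) (b - r)⁻¹ • hx'
      match_scalars <;> field_simp <;> ring
    rw [hb, sub_self, zero_smul, add_zero] at hx'
    exact ⟨(sub_eq_zero.mp ((smul_eq_zero.mp hx').resolve_right hx)).trans hzero.1.symm, hb.trans hzero.2.symm⟩
  obtain ⟨x₀, hx₀⟩ := exists_ne (0 : Vs)
  obtain ⟨y₀, hy₀⟩ : ∃ y₀, ¬ In2 x₀ (J *ᵥ x₀) y₀ := by
    by_contra hcon
    push Not at hcon
    obtain ⟨x, hx1, -⟩ := (perp_plane (S.self_zero x₀) (S.indep hx₀) hx₀).2 1 0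
    have := In2.iso (S.self_zero x₀) (In2.left x₀ (J *ᵥ x₀)) (hcon x)
    rw [hx1] at this
    exact one_ne_zero this
  have hy0 : y₀ ≠ 0 := fun e => hy₀ ⟨0, 0, by rw [e]; module⟩
  obtain ⟨α, β, hαβ⟩ := hloc x₀ hx₀
  obtain ⟨α', β', hαβ'⟩ := hloc y₀ hy0
  obtain ⟨rfl, rfl⟩ := hcoef x₀ y₀ hx₀ hy0 hy₀ _ _ _ _ hαβ hαβ'
  have hall' : ∀ z, z ≠ 0 → J' z = α • z + β • (J *ᵥ z) := fun z hz => by
    obtain ⟨a, b, hab⟩ := hloc z hz
    by_cases h : In2 x₀ (J *ᵥ x₀) z
    · obtain ⟨rfl, rfl⟩ := hcoef z y₀ hz hy0 (fun h' => hy₀ (by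
        obtain ⟨s, t, rfl⟩ := h'
        exact In2.comb h (S.inv2 z x₀ h) s t)) _ _ _ _ hab hαβ'
      exact hab
    · obtain ⟨rfl, rfl⟩ := hcoef x₀ z hx₀ hz h _ _ _ _ hαβ hab
      exact hab
  have hfin : ∀ z, J *ᵥ ((g : Matrix ιS ιS F) *ᵥ z) =
      α • ((g : Matrix ιS ιS F) *ᵥ z) + β • ((g : Matrix ιS ιS F) *ᵥ (J *ᵥ z)) := fun z => by
    by_cases hz : z = 0
    · simp [hz]
    have := congrArg ((g : Matrix ιS ιS F) *ᵥ ·) (hall' z hz)
    simp only [hJ', gl_mulVec_inv_cancel, Matrix.mulVec_add, Matrix.mulVec_smul] at this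
    exact this
  have hgx : (g : Matrix ιS ιS F) *ᵥ x₀ ≠ 0 := fun e => hx₀ (gl_mulVec_injective g (e.trans (Matrix.mulVec_zero _).symm))
  have h := congrArg (J *ᵥ ·) (hfin x₀)
  simp only [S.sq] at h
  simp only [Matrix.mulVec_add, Matrix.mulVec_smul, hfin, S.sq] at h
  have h' : (2 * α * β) • (J *ᵥ x₀) = (d - α * α - β * β * d) • x₀ := gl_mulVec_injective g (by
    simp only [Matrix.mulVec_smul]
    linear_combination (norm := module) -h)
  have h2αβ : 2 * α * β = 0 := by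
    by_contra hne
    refine S.indep hx₀ ((d - α * α - β * β * d) / (2 * α * β)) ?_
    rw [div_eq_inv_mul, ← smul_smul, ← h', smul_smul, inv_mul_cancel₀ hne, one_smul]
  rw [h2αβ, zero_smul] at h'
  have hq := (smul_eq_zero.mp h'.symm).resolve_right hx₀
  have hβ0 : β ≠ 0 := fun e => S.nsq α (by rw [e] at hq; linear_combination -hq)
  have hα0 : α = 0 := (mul_eq_zero.mp ((mul_eq_zero.mp h2αβ).resolve_right hβ0)).resolve_left S.h2
  have hβ : β * β = 1 := by
    rw [hα0] at hq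
    exact mul_right_cancel₀ (b := d) (fun e => S.nsq 0 (by rw [e]; ring)) (by linear_combination -hq)
  rcases mul_self_eq_one_iff.mp hβ with e | e
  · exact Or.inl fun z => by rw [hfin, hα0, e, one_smul, zero_smul, zero_add]
  · exact Or.inr fun z => by rw [hfin, hα0, e, neg_one_smul, zero_smul, zero_add, neg_neg]

end SelfAdj

/-- A self-adjoint quadratic subfield. -/
theorem symp_isMaximal (hodd : Odd (Fintype.card F))
    (K : Subalgebra F (Matrix (Fin 2 ⊕ Fin 2) (Fin 2 ⊕ Fin 2) F)) (hK : IsFieldSubalgebra 2 K)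
    (hsa : IsSelfAdjointFor (sympForm 2 F) K) :
    IsMaximalIn (spGL 2 F) (subalgebraNormalizer K ⊓ spGL 2 F) := by
  classical
  have h2 : (2 : F) ≠ 0 := two_ne_zero_of_odd_card hodd
  obtain ⟨k, hk, hkne⟩ : ∃ k ∈ K, ∀ c : F, k ≠ c • (1 : Matrix ιS ιS F) := by
    by_contra hcon
    push Not at hcon
    have hle : Subalgebra.toSubmodule K ≤ Submodule.span F {(1 : Matrix ιS ιS F)} := fun z hz => by
      obtain ⟨c, hc⟩ := hcon z hz
      exact Submodule.mem_span_singleton.mpr ⟨c, hc.symm⟩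
    have h1 := Submodule.finrank_mono hle
    rw [Subalgebra.finrank_toSubmodule, hK.finrank_eq, finrank_span_singleton one_ne_zero] at h1
    omega
  have hspan : ∀ z ∈ K, ∃ a b : F, z = a • (1 : Matrix ιS ιS F) + b • k := by
    have hli : LinearIndependent F ![(1 : Matrix ιS ιS F), k] :=
      (LinearIndependent.pair_iff' one_ne_zero).mpr fun c h => hkne c h.symm
    have hle : Submodule.span F (Set.range ![(1 : Matrix ιS ιS F), k]) ≤ Subalgebra.toSubmodule K := by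
      rw [Submodule.span_le]
      rintro _ ⟨i, rfl⟩
      fin_cases i
      · exact one_mem K
      · exact hk
    have heq := Submodule.eq_of_le_of_finrank_eq hle (by
      rw [finrank_span_eq_card hli, Subalgebra.finrank_toSubmodule, hK.finrank_eq, Fintype.card_fin])
    intro z hz
    rw [← Subalgebra.mem_toSubmodule, ← heq, Submodule.mem_span_range_iff_exists_fun] at hz
    obtain ⟨c, hc⟩ := hz
    exact ⟨c 0, c 1, by rw [← hc]; simp [Fin.sum_univ_succ]⟩
  obtain ⟨a, b, hkk⟩ := hspan _ (mul_mem hk hk)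
  obtain ⟨J, hJ⟩ : ∃ J, J = k - (b / 2) • (1 : Matrix ιS ιS F) := ⟨_, rfl⟩
  have hJK : J ∈ K := hJ ▸ sub_mem hk (K.smul_mem (one_mem K) _)
  have hJne : ∀ c : F, J ≠ c • (1 : Matrix ιS ιS F) := fun c e => hkne (c + b / 2) (by
    rw [add_smul, ← e, hJ, sub_add_cancel])
  obtain ⟨d, hd⟩ : ∃ d, d = a + b / 2 * (b / 2) := ⟨_, rfl⟩
  have hJJ : J * J = d • (1 : Matrix ιS ιS F) := by
    rw [hJ, hd]
    simp only [sub_mul, mul_sub, smul_mul_assoc, mul_smul_comm, one_mul, mul_one, hkk]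
    match_scalars <;> field_simp <;> ring
  have hsq : ∀ x, J *ᵥ (J *ᵥ x) = d • x := fun x => by
    rw [Matrix.mulVec_mulVec, hJJ, Matrix.smul_mulVec, Matrix.one_mulVec]
  have hnsq : ∀ c : F, c * c ≠ d := fun c hc => by
    have e : (J - c • 1) * (J + c • 1) = 0 := by
      simp only [sub_mul, mul_add, smul_mul_assoc, mul_smul_comm, one_mul, mul_one, hJJ, ← hc]
      module
    rcases fieldSubalgebra_mul_eq_zero hK (sub_mem hJK (K.smul_mem (one_mem K) c)) e with h | h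
    · exact hJne c (sub_eq_zero.mp h)
    · exact hJne (-c) (by rw [neg_smul]; exact eq_neg_of_add_eq_zero_left h)
  have hKJ : ∀ z ∈ K, ∃ a b : F, ∀ x, z *ᵥ x = a • x + b • (J *ᵥ x) := fun z hz => by
    obtain ⟨p, r, rfl⟩ := hspan z hz
    refine ⟨p + r * (b / 2), r, fun x => ?_⟩
    rw [hJ]
    simp only [Matrix.add_mulVec, Matrix.sub_mulVec, Matrix.smul_mulVec, Matrix.one_mulVec]
    module
  -- membership in the normaliser
  have hnorm : ∀ (g : Gs) (s : F), s * s = 1 →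
      (∀ x, (g : Matrix ιS ιS F) *ᵥ (J *ᵥ x) = s • (J *ᵥ ((g : Matrix ιS ιS F) *ᵥ x))) →
      g ∈ subalgebraNormalizer K := by
    intro g s hs hg z
    refine ⟨fun hz => ?_, fun hz => ?_⟩
    · obtain ⟨p, r, hpr⟩ := hKJ z hz
      rw [show (g : Matrix ιS ιS F) * z * ((g⁻¹ : Gs) : Matrix ιS ιS F) = p • 1 + (s * r) • J from
        UInSp.matrix_eq_of_mulVec fun x => by
          rw [← Matrix.mulVec_mulVec, ← Matrix.mulVec_mulVec, hpr, Matrix.mulVec_add, Matrix.mulVec_smul,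
            Matrix.mulVec_smul, hg, gl_mulVec_inv_cancel, Matrix.add_mulVec, Matrix.smul_mulVec,
            Matrix.smul_mulVec, Matrix.one_mulVec, smul_smul, mul_comm r s]]
      exact add_mem (K.smul_mem (one_mem K) _) (K.smul_mem hJK _)
    · obtain ⟨p, r, hpr⟩ := hKJ _ hz
      rw [show z = p • 1 + (s * r) • J from UInSp.matrix_eq_of_mulVec fun x => gl_mulVec_injective g (by
        simp only
        have := hpr ((g : Matrix ιS ιS F) *ᵥ x)
        rw [← Matrix.mulVec_mulVec, gl_inv_mulVec_cancel, ← Matrix.mulVec_mulVec] at this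
        rw [this, Matrix.add_mulVec, Matrix.smul_mulVec, Matrix.smul_mulVec, Matrix.one_mulVec, Matrix.mulVec_add,
          Matrix.mulVec_smul, Matrix.mulVec_smul, hg, smul_smul, show s * r * s = r * (s * s) by ring, hs, mul_one])]
      exact add_mem (K.smul_mem (one_mem K) _) (K.smul_mem hJK _)
  have hadj : ∀ x y, fS (J *ᵥ x) y = fS x (J *ᵥ y) := hsa J hJK
  refine ⟨lt_of_le_of_ne inf_le_right fun e => ?_, fun M hM hMS => ?_⟩
  · -- properness
    obtain ⟨u, hu⟩ := exists_ne (0 : Vs)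
    have hu' : fS u (J *ᵥ u) = 0 := by
      have h := f_skew u (J *ᵥ u)
      rw [hadj] at h
      exact (mul_eq_zero.mp (show (2 : F) * fS u (J *ᵥ u) = 0 by linear_combination h)).resolve_left h2
    obtain ⟨x, hx1, hx3⟩ := (perp_plane hu' (fun c e => hnsq c (by
      have := hsq u
      rw [e, Matrix.mulVec_smul, e, smul_smul] at this
      exact smul_left_injective F hu this)) hu).2 1 0
    obtain ⟨p, r, hpr⟩ := hKJ _ ((inf_eq_right.mp e (T_mem u (1 : F)) J).mp hJK)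
    have h1 : ∀ z, (T u (1 : F) : Matrix ιS ιS F) *ᵥ (J *ᵥ z) = p • ((T u (1 : F) : Matrix ιS ιS F) *ᵥ z) +
        r • (J *ᵥ ((T u (1 : F) : Matrix ιS ιS F) *ᵥ z)) := fun z => by
      rw [← hpr, ← Matrix.mulVec_mulVec, gl_inv_mulVec_cancel, ← Matrix.mulVec_mulVec]
    have e1 := congrArg (fun z => fS z x) (h1 u)
    have e2 := congrArg (fun z => fS z x) (h1 x)
    simp only [T_apply, Matrix.mulVec_add, Matrix.mulVec_smul, f_add_left, f_smul_left, f_self, hu', f_skew (J *ᵥ u) u,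
      mul_zero, zero_mul, add_zero, one_mul, neg_zero, hadj, f_skew x u, hx1] at e1 e2
    have hJxu : fS u (J *ᵥ x) = 0 := by rw [← hadj]; exact hx3
    have hJxx : fS x (J *ᵥ x) = 0 := by
      have h := f_skew x (J *ᵥ x)
      rw [hadj] at h
      exact (mul_eq_zero.mp (show (2 : F) * fS x (J *ᵥ x) = 0 by linear_combination h)).resolve_left h2
    have hxu : fS x (J *ᵥ u) = 0 := by rw [f_skew, hadj, hJxu, neg_zero]
    simp only [hJxu, hJxx, hxu] at e1 e2
    have hp : p = 0 := by linear_combination -e1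
    have e3 := congrArg (fun z => fS z x) (h1 (J *ᵥ x))
    simp only [hp, hsq, T_apply, Matrix.mulVec_add, Matrix.mulVec_smul, f_add_left, f_smul_left, f_self, zero_mul,
      hadj, f_skew x u, hx1, hJxu, hJxx, hxu, one_mul, mul_zero, add_zero, zero_add] at e3
    exact hnsq 0 (by linear_combination e3)
  have S : SelfAdj J d M := ⟨h2, hsq, hnsq, hadj, hMS,
    fun g hg h => hM ⟨hnorm g 1 (one_mul 1) (fun x => by rw [h, one_smul]), hg⟩⟩
  rcases S.overgroup with h | h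
  · refine Or.inl (le_antisymm (fun g hg => ?_) hM)
    rcases h g hg with h' | h'
    · exact ⟨hnorm g 1 (one_mul 1) (fun x => by rw [h', one_smul]), hMS hg⟩
    · exact ⟨hnorm g (-1) (by ring) (fun x => by rw [h', neg_one_smul]), hMS hg⟩
  · exact Or.inr (le_antisymm hMS h)

end Cfsg.Agent.Classical.SpFourOdd
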