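/-
Subfield subgroups of prime index are maximal in `Sp_4(q)`, `q` odd.
-/
import Cfsg.Agent.Lib.Classical.SpSubfieldMaximal
import Cfsg.Agent.Lib.Classical.SL2OppGen

set_option autoImplicit false
set_option linter.unusedSectionVars false
set_option linter.style.haveILetI false

namespace Cfsg.Agent.Classical.SpFourOdd

open Matrix Cfsg.Geo
open Cfsg.Agent.Classical Cfsg.Agent.Classical.SpSubMax

universe u

variable {ι : Type} [Fintype ι] [DecidableEq ι] {F : Type u} [Field F] [Fintype F] {F₀ : Subfield F}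
  {f : (ι → F) → (ι → F) → F} {K : Subgroup (GL ι F)}

variable (S : Setup F₀ f K)

include S

/-- An irrational element moves some rational vector to one with an irrational squared product. -/
theorem exists_bad {g : GL ι F}
    (hgn : ∃ k l k' l', (g : Matrix ι ι F) k k' * (g : Matrix ι ι F) l l' ∉ F₀) :
    ∃ v r : ι → F, (∀ i, v i ∈ F₀) ∧ (∀ i, r i ∈ F₀) ∧
      f ((g : Matrix ι ι F) *ᵥ v) r * f ((g : Matrix ι ι F) *ᵥ v) r ∉ F₀ ∨
      ((2 : F) = 0) := by
  classical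
  by_contra hcon
  push Not at hcon
  obtain ⟨B, hB⟩ : ∃ B : (ι → F) → (ι → F) → F, ∀ v r, B v r = f ((g : Matrix ι ι F) *ᵥ v) r := ⟨_, fun _ _ => rfl⟩
  have hsq : ∀ v r : ι → F, (∀ i, v i ∈ F₀) → (∀ i, r i ∈ F₀) → B v r * B v r ∈ F₀ := fun v r hv hr => by
    rw [hB]
    by_contra h
    exact h ((hcon v r).1 hv hr)
  have h2 : (2 : F) ≠ 0 := (hcon 0 0).2
  have hr2 : ((2 : F))⁻¹ ∈ F₀ := inv_mem (by rw [← one_add_one_eq_two]; exact add_mem (one_mem _) (one_mem _))
  have hBr : ∀ v r r', B v (r + r') = B v r + B v r' := fun v r r' => by rw [hB, hB, hB, S.symp.bilinear.add_right]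
  have hBl : ∀ v v' r, B (v + v') r = B v r + B v' r := fun v v' r => by
    rw [hB, hB, hB, Matrix.mulVec_add, S.symp.bilinear.add_left]
  have m1 : ∀ v r r' : ι → F, (∀ i, v i ∈ F₀) → (∀ i, r i ∈ F₀) → (∀ i, r' i ∈ F₀) → B v r * B v r' ∈ F₀ :=
    fun v r r' hv hr hr' => by
      have := mul_mem (sub_mem (sub_mem (hsq v (r + r') hv fun i => add_mem (hr i) (hr' i)) (hsq v r hv hr))
        (hsq v r' hv hr')) hr2
      rw [hBr] at this
      convert this using 1
      field_simp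
      ring
  have m2 : ∀ v v' r : ι → F, (∀ i, v i ∈ F₀) → (∀ i, v' i ∈ F₀) → (∀ i, r i ∈ F₀) → B v r * B v' r ∈ F₀ :=
    fun v v' r hv hv' hr => by
      have := mul_mem (sub_mem (sub_mem (hsq (v + v') r (fun i => add_mem (hv i) (hv' i)) hr) (hsq v r hv hr))
        (hsq v' r hv' hr)) hr2
      rw [hBl] at this
      convert this using 1
      field_simp
      ring
  have hone : ∀ i j, (Pi.single i (1 : F) : ι → F) j ∈ F₀ := fun i j => by
    rw [Pi.single_apply]; split_ifs; exacts [one_mem _, zero_mem _]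
  obtain ⟨v₀, r₀, hv₀, hr₀, h0⟩ : ∃ v r : ι → F, (∀ i, v i ∈ F₀) ∧ (∀ i, r i ∈ F₀) ∧ B v r ≠ 0 := by
    by_contra hzero
    push Not at hzero
    obtain ⟨k, l, i, j, hbad⟩ := hgn
    have hcol : ∀ i, (g : Matrix ι ι F) *ᵥ Pi.single i 1 = 0 := fun i =>
      eq_of_rat S fun x => by rw [← hB, hzero _ _ (hone i) fun t => (x t).2, f_zero_left S]
    have := congrFun (hcol i) k
    rw [Matrix.mulVec_single_one, Matrix.col_apply, Pi.zero_apply] at this
    exact hbad (by rw [this, zero_mul]; exact zero_mem _)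
  obtain ⟨a₀, ha₀⟩ : ∃ a₀, a₀ = B v₀ r₀ := ⟨_, rfl⟩
  rw [← ha₀] at h0
  have hmain : ∀ v r : ι → F, (∀ i, v i ∈ F₀) → (∀ i, r i ∈ F₀) → B v r * a₀ ∈ F₀ := by
    intro v r hv hr
    have key : ∀ u v r : ι → F, (∀ i, u i ∈ F₀) → (∀ i, v i ∈ F₀) → (∀ i, r i ∈ F₀) → B u r₀ ≠ 0 →
        B u r = B v r → B v r * a₀ ∈ F₀ := fun u v r hu hv hr hne he => by
      have := mul_mem (mul_mem (m1 u r r₀ hu hr hr₀) (m2 u v₀ r₀ hu hv₀ hr₀)) (inv_mem (hsq u r₀ hu hr₀))
      rwa [← ha₀, he, show B v r * B u r₀ * (B u r₀ * a₀) * (B u r₀ * B u r₀)⁻¹ = B v r * a₀ by field_simp] at this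
    by_cases h1 : B v r₀ = 0
    · by_cases h2 : B v₀ r = 0
      · exact key (v + v₀) v r (fun i => add_mem (hv i) (hv₀ i)) hv hr (by rw [hBl, h1, zero_add, ← ha₀]; exact h0)
          (by rw [hBl, h2, add_zero])
      · have := mul_mem (mul_mem (m2 v v₀ r hv hv₀ hr) (m1 v₀ r r₀ hv₀ hr hr₀)) (inv_mem (hsq v₀ r hv₀ hr))
        rwa [← ha₀, show B v r * B v₀ r * (B v₀ r * a₀) * (B v₀ r * B v₀ r)⁻¹ = B v r * a₀ by field_simp] at this
    · exact key v v r hv hv hr h1 rfl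
  -- the entries
  obtain ⟨k, l, i, j, hbad⟩ := hgn
  have hent : ∀ k i, (g : Matrix ι ι F) k i * a₀ ∈ F₀ := by
    intro k i
    obtain ⟨u, hu⟩ := exists_rep S
      { toFun := fun x => (⟨B (Pi.single i 1) (fun t => (x t : F)) * a₀, hmain _ _ (hone i) fun t => (x t).2⟩ : F₀)
        map_add' := fun x y => Subtype.ext (by
          show B (Pi.single i 1) (fun t => ((x + y) t : F)) * a₀ = _
          rw [show (fun t => ((x + y) t : F)) = (fun t => (x t : F)) + fun t => (y t : F) from rfl, hBr, add_mul]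
          rfl)
        map_smul' := fun c x => Subtype.ext (by
          show B (Pi.single i 1) (fun t => ((c • x) t : F)) * a₀ = _
          rw [show (fun t => ((c • x) t : F)) = (c : F) • fun t => (x t : F) from rfl, hB,
            S.symp.bilinear.smul_right, ← hB, mul_assoc]
          rfl) }
    have : a₀ • ((g : Matrix ι ι F) *ᵥ Pi.single i 1) = fun t => (u t : F) := eq_of_rat S fun x => by
      rw [hu, S.symp.bilinear.smul_left, ← hB, mul_comm]
      rfl
    have h := congrFun this k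
    rw [Pi.smul_apply, Matrix.mulVec_single_one, Matrix.col_apply, smul_eq_mul, mul_comm] at h
    rw [h]
    exact (u k).2
  refine hbad ?_
  have := mul_mem (mul_mem (hent k i) (hent l j)) (inv_mem (hsq v₀ r₀ hv₀ hr₀))
  rwa [← ha₀, show (g : Matrix ι ι F) k i * a₀ * ((g : Matrix ι ι F) l j * a₀) * (a₀ * a₀)⁻¹ =
    (g : Matrix ι ι F) k i * (g : Matrix ι ι F) l j by field_simp] at this

/-- Odd index: one plane suffices. -/
theorem center_of_odd_index (h2 : (2 : F) ≠ 0) {r : ℕ} (hr : r.Prime) (hodd : r ≠ 2)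
    (hcard : Fintype.card F = Nat.card F₀ ^ r) {e w : ι → F} (he : ∀ i, e i ∈ F₀)
    (hw : ∀ c ∈ F₀, In K (tq f w c)) (hs : f w e * f w e ∉ F₀) :
    ∃ (b : ι → F) (l : F), b ≠ 0 ∧ (∀ i, b i ∈ F₀) ∧ l ∉ F₀ ∧ In K (tq f b l) := by
  classical
  have hadd := S.symp.bilinear.add_left
  have hsl := S.symp.bilinear.smul_left
  have hsr := S.symp.bilinear.smul_right
  obtain ⟨s, hsd⟩ : ∃ s, s = f w e := ⟨_, rfl⟩
  rw [← hsd] at hs
  have hs0 : s ≠ 0 := fun h => hs (by rw [h, mul_zero]; exact zero_mem _)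
  have he0 : e ≠ 0 := fun h => hs0 (by rw [hsd, h, f_zero_right S])
  obtain ⟨e', he'⟩ : ∃ e', e' = s⁻¹ • w := ⟨_, rfl⟩
  have hee : f e' e = 1 := by rw [he', hsl, ← hsd, inv_mul_cancel₀ hs0]
  have he'e : f e e' = -1 := by rw [S.symp.skew, hee]
  let π : (ι → F) → Fin 2 → F := fun x => ![f x e', f x e]
  obtain ⟨W, hW⟩ : ∃ W, W = Submodule.span F ({e, e'} : Set (ι → F)) := ⟨_, rfl⟩
  have hmem : e ∈ W ∧ e' ∈ W := by
    rw [hW]; exact ⟨Submodule.subset_span (by simp), Submodule.subset_span (by simp)⟩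
  let G : Subgroup (Matrix.SpecialLinearGroup (Fin 2) F) :=
    { carrier := {M | ∃ y ∈ K, ∀ x, (y : Matrix ι ι F) *ᵥ x - x ∈ W ∧
        π ((y : Matrix ι ι F) *ᵥ x) = (M : Matrix (Fin 2) (Fin 2) F) *ᵥ π x}
      one_mem' := ⟨1, one_mem _, fun x => ⟨by simp, by simp⟩⟩
      mul_mem' := by
        rintro M N ⟨y, hy, hyM⟩ ⟨z, hz, hzN⟩
        refine ⟨y * z, mul_mem hy hz, fun x => ⟨?_, ?_⟩⟩
        · rw [gl_mul_mulVec]
          have := W.add_mem (hyM ((z : Matrix ι ι F) *ᵥ x)).1 (hzN x).1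
          rwa [sub_add_sub_cancel] at this
        · rw [gl_mul_mulVec, (hyM _).2, (hzN x).2, Matrix.mulVec_mulVec]; rfl
      inv_mem' := by
        rintro M ⟨y, hy, hyM⟩
        refine ⟨y⁻¹, inv_mem hy, fun x => ⟨?_, ?_⟩⟩
        · have := W.neg_mem (hyM (((y⁻¹ : GL ι F) : Matrix ι ι F) *ᵥ x)).1
          rwa [gl_mulVec_inv_cancel, neg_sub] at this
        · have := (hyM (((y⁻¹ : GL ι F) : Matrix ι ι F) *ᵥ x)).2
          rw [gl_mulVec_inv_cancel] at this
          rw [this, Matrix.mulVec_mulVec, ← Matrix.SpecialLinearGroup.coe_mul, inv_mul_cancel]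
          simp }
  obtain ⟨k, hk⟩ : ∃ k, k = s * s := ⟨_, rfl⟩
  have hμ : Cfsg.Agent.Small.PSL2.uS (-k) ∈ G := by
    refine SL2Plane.opp_full hr hcard (F₀ := F₀) hodd h2 (c := s * s) hs (fun x hx => ?_) (fun x hx => ?_) _
    · obtain ⟨t, ht, htx⟩ := hw x hx
      have hw' : w = s • e' := by rw [he', smul_smul, mul_inv_cancel₀ hs0, one_smul]
      refine ⟨t, ht, fun z => ⟨?_, ?_⟩⟩
      · rw [htx, add_sub_cancel_left, tq, hw']
        exact W.smul_mem _ (W.smul_mem _ hmem.2)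
      · rw [htx]
        ext a
        fin_cases a <;> simp [π, tq, Matrix.mulVec, hw', hadd, hsl, hsr, hee, S.symp.alternating]
        ring
    · obtain ⟨t, ht, htx⟩ := S.base e (-x) he (neg_mem hx)
      refine ⟨t, ht, fun z => ⟨?_, ?_⟩⟩
      · rw [htx, add_sub_cancel_left]; exact W.smul_mem _ hmem.1
      · rw [htx]
        ext a
        fin_cases a <;> simp [π, tq, Matrix.mulVec, hadd, hsl, f_neg_left S, he'e, S.symp.alternating]
  refine ⟨e, k, he0, he, hk ▸ hs, ?_⟩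
  obtain ⟨y, hy, hyM⟩ := hμ
  refine ⟨y, hy, fun x => ?_⟩
  obtain ⟨hxW, hxπ⟩ := hyM x
  rw [hW] at hxW
  obtain ⟨a, b, hab⟩ := Submodule.mem_span_pair.mp hxW
  have hy' : (y : Matrix ι ι F) *ᵥ x = x + (a • e + b • e') := by rw [hab, add_sub_cancel]
  have h0 := congrFun hxπ 0
  have h1 := congrFun hxπ 1
  simp [π, Matrix.mulVec, hy', hadd, hsl, hee, he'e, S.symp.alternating] at h0 h1
  rw [hy', tq, h1, zero_smul, add_zero]
  congr 2

/-- An irrational transvection with isotropic parts. -/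
theorem center_of_split (h2 : (2 : F) ≠ 0) {θ : F} (hθ : θ ∉ F₀) (hθ2 : θ * θ ∈ F₀) {a b : ι → F}
    (ha : ∀ i, a i ∈ F₀) (hb : ∀ i, b i ∈ F₀) (hab : f a b = 0) (ha0 : a ≠ 0) (hind : ∀ k : F, k • a ≠ b)
    (hb0 : b ≠ 0) (hz : In K (tq f (a + θ • b) 1)) :
    ∃ (v : ι → F) (l : F), v ≠ 0 ∧ (∀ i, v i ∈ F₀) ∧ l ∉ F₀ ∧ In K (tq f v l) := by
  have hba : f b a = 0 := by rw [S.symp.skew, hab, neg_zero]
  have hadd := S.symp.bilinear.add_left
  have haddr := S.symp.bilinear.add_right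
  have hsl := S.symp.bilinear.smul_left
  have hsr := S.symp.bilinear.smul_right
  have hE : In K fun x => (θ * f x a) • b + (θ * f x b) • a := by
    refine ((hz.comp (S.base a (-1) ha (neg_mem (one_mem _)))).comp
      (S.base b (-(θ * θ)) hb (neg_mem hθ2))).congr fun x => ?_
    simp only [tq, hadd, haddr, hsl, hsr, S.symp.alternating, hab, hba]
    module
  obtain ⟨z, hz', hzb, hza⟩ := exists_sep S ha hb hb0 hind
  have hbz : f b z = -1 := by rw [S.symp.skew, hzb]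
  obtain ⟨y, hy, hyx⟩ := exists_shear S hz' ha hza
  have haz : f a z = 0 := by rw [S.symp.skew, hza, neg_zero]
  have hya : (y : Matrix ι ι F) *ᵥ a = a := by
    rw [hyx, haz, S.symp.alternating, zero_smul, zero_smul, add_zero, add_zero]
  have hyb : (y : Matrix ι ι F) *ᵥ b = b - a := by rw [hyx, hbz, hba, zero_smul, add_zero]; module
  have hE' : In K fun x => (θ * f x a) • (b - a) + (θ * f x (b - a)) • a := (hE.conj hy).congr fun x => by
    rw [Matrix.mulVec_add, Matrix.mulVec_smul, Matrix.mulVec_smul, hya, hyb, conj_iso S hy, conj_iso S hy, hya, hyb]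
  have hEi : In K fun x => -((θ * f x (b - a)) • a + (θ * f x a) • (b - a)) := hE'.inv fun x => by
    simp only [hadd, hsl, f_neg_left S, f_sub_left S, f_sub_right S, S.symp.alternating, hab, hba]
    module
  refine ⟨a, θ + θ, ha0, ha, fun h => hθ ?_, (hE.comp hEi).congr fun x => ?_⟩
  · have := mul_mem h (inv_mem (show (2 : F) ∈ F₀ by rw [← one_add_one_eq_two]; exact add_mem (one_mem _) (one_mem _)))
    rwa [show (θ + θ) * (2 : F)⁻¹ = θ by field_simp; ring] at this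
  · simp only [tq, hadd, hsl, f_neg_left S, f_sub_left S, f_sub_right S, S.symp.alternating, hab, hba]
    module

omit S in
/-- A field of index two is spanned by one and a square root. -/
theorem exists_root (h2 : (2 : F) ≠ 0) (hcard : Fintype.card F = Nat.card F₀ ^ 2) :
    ∃ θ : F, θ ∉ F₀ ∧ θ * θ ∈ F₀ ∧ ∀ x : F, ∃ α ∈ F₀, ∃ β ∈ F₀, x = α + β * θ := by
  classical
  letI : Algebra F₀ F := F₀.toAlgebra
  have hrk : Module.finrank F₀ F = 2 := by
    have h1 : Nat.card F = Nat.card F₀ ^ Module.finrank F₀ F := Module.natCard_eq_pow_finrank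
    rw [Nat.card_eq_fintype_card (α := F), hcard] at h1
    exact (Nat.pow_right_injective Finite.one_lt_card h1).symm
  obtain ⟨t, ht⟩ : ∃ t : F, t ∉ F₀ := by
    by_contra hcon
    push Not at hcon
    have hle : Fintype.card F ≤ Nat.card F₀ := by
      rw [← Nat.card_eq_fintype_card]
      exact Nat.card_le_card_of_injective (fun x => (⟨x, hcon x⟩ : F₀)) fun a b h => congrArg Subtype.val h
    have h1 : 1 < Nat.card F₀ := Finite.one_lt_card
    rw [hcard, pow_two] at hle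
    nlinarith
  have hspan : ∀ x : F, ∃ α ∈ F₀, ∃ β ∈ F₀, x = α + β * t := by
    intro x
    have hli : LinearIndependent F₀ ![(1 : F), t] := (LinearIndependent.pair_iff' one_ne_zero).mpr fun c h => ht (by
      rw [← h, Algebra.smul_def, mul_one]
      exact c.2)
    have htop := hli.span_eq_top_of_card_eq_finrank (by rw [Fintype.card_fin, hrk])
    have hx : x ∈ Submodule.span F₀ (Set.range ![(1 : F), t]) := by rw [htop]; trivial
    rw [Matrix.range_cons, Matrix.range_cons, Matrix.range_empty, Set.union_empty, Set.singleton_union,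
      Submodule.mem_span_pair] at hx
    obtain ⟨α, β, hαβ⟩ := hx
    exact ⟨α, α.2, β, β.2, by rw [← hαβ, Algebra.smul_def, Algebra.smul_def, mul_one]; rfl⟩
  obtain ⟨α, hα, β, hβ, hαβ⟩ := hspan (t * t)
  have hhalf : β / 2 ∈ F₀ := div_mem hβ (by rw [← one_add_one_eq_two]; exact add_mem (one_mem _) (one_mem _))
  refine ⟨t - β / 2, fun h => ht ?_, ?_, fun x => ?_⟩
  · simpa using add_mem h hhalf
  · rw [show (t - β / 2) * (t - β / 2) = α + β / 2 * (β / 2) by field_simp; linear_combination 4 * hαβ]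
    exact add_mem hα (mul_mem hhalf hhalf)
  · obtain ⟨p, hp, q, hq, hx⟩ := hspan x
    exact ⟨p + q * (β / 2), add_mem hp (mul_mem hq hhalf), q, hq, by rw [hx]; ring⟩

/-- An irrational element gives an irrational transvection with rational centre. -/
theorem exists_center (h2 : (2 : F) ≠ 0) (h4 : Fintype.card ι = 4) {r : ℕ} (hr : r.Prime)
    (hcard : Fintype.card F = Nat.card F₀ ^ r) {g : GL ι F} (hg : g ∈ K)
    (hgn : ∃ k l k' l', (g : Matrix ι ι F) k k' * (g : Matrix ι ι F) l l' ∉ F₀) :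
    ∃ (b : ι → F) (l : F), b ≠ 0 ∧ (∀ i, b i ∈ F₀) ∧ l ∉ F₀ ∧ In K (tq f b l) := by
  classical
  obtain ⟨v, e, h⟩ := exists_bad S hgn
  obtain ⟨hv, he, hbad⟩ := h.resolve_right h2
  obtain ⟨w, hwd⟩ : ∃ w, w = (g : Matrix ι ι F) *ᵥ v := ⟨_, rfl⟩
  rw [← hwd] at hbad
  have hw : ∀ c ∈ F₀, In K (tq f w c) := fun c hc => hwd ▸ In.conj_tq S (S.base v c hv hc) hg
  by_cases hr2 : r = 2
  swap
  · exact center_of_odd_index S h2 hr hr2 hcard he hw hbad
  subst hr2
  have hadd := S.symp.bilinear.add_left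
  have haddr := S.symp.bilinear.add_right
  have hsl := S.symp.bilinear.smul_left
  have hsr := S.symp.bilinear.smul_right
  obtain ⟨θ, hθ, hn, hdec⟩ := exists_root (F₀ := F₀) h2 hcard
  choose α hα β hβ hαβ using hdec
  obtain ⟨a, had⟩ : ∃ a : ι → F, a = fun i => α (w i) := ⟨_, rfl⟩
  obtain ⟨b, hbd⟩ : ∃ b : ι → F, b = fun i => β (w i) := ⟨_, rfl⟩
  have ha : ∀ i, a i ∈ F₀ := fun i => by rw [had]; exact hα _
  have hb : ∀ i, b i ∈ F₀ := fun i => by rw [hbd]; exact hβ _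
  have hwab : w = a + θ • b := funext fun i => by
    rw [Pi.add_apply, Pi.smul_apply, smul_eq_mul, had, hbd]; linear_combination hαβ (w i)
  have hrational : ∀ (u : ι → F) (μ : F), (∀ i, u i ∈ F₀) → w = μ • u →
      ∃ (b : ι → F) (l : F), b ≠ 0 ∧ (∀ i, b i ∈ F₀) ∧ l ∉ F₀ ∧ In K (tq f b l) := by
    intro u μ hu hwu
    refine ⟨u, μ * μ, fun h0 => hbad ?_, hu, fun hm => hbad ?_, (hw 1 (one_mem _)).congr fun x => ?_⟩
    · rw [hwu, h0, smul_zero, f_zero_left S, mul_zero]; exact zero_mem _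
    · rw [hwu, hsl, show μ * f u e * (μ * f u e) = μ * μ * (f u e * f u e) by ring]
      exact mul_mem hm (mul_mem (S.rat _ _ hu he) (S.rat _ _ hu he))
    · simp only [tq, hwu, hsr, smul_smul]; congr 1; ring
  by_cases ha0 : a = 0
  · exact hrational b θ hb (by rw [hwab, ha0, zero_add])
  by_cases hind : ∃ k : F, k • a = b
  · obtain ⟨k, hk⟩ := hind
    exact hrational a (1 + θ * k) ha (by rw [hwab, ← hk]; module)
  push Not at hind
  have hb0 : b ≠ 0 := fun h => hind 0 (by rw [h, zero_smul])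
  by_cases hab : f a b = 0
  · exact center_of_split S h2 hθ hn ha hb hab ha0 hind hb0 (hwab ▸ hw 1 (one_mem _))
  -- move to isotropic parts
  obtain ⟨κ, hκ⟩ : ∃ κ, κ = f a b := ⟨_, rfl⟩
  have hκ0 : κ ≠ 0 := hκ ▸ hab
  have hκr : κ ∈ F₀ := hκ ▸ S.rat _ _ ha hb
  have hba : f b a = -κ := by rw [S.symp.skew, hκ]
  obtain ⟨n, hnd⟩ : ∃ n, n = θ * θ := ⟨_, rfl⟩
  rw [← hnd] at hn
  have hn0 : n ≠ 0 := fun e => hθ (mul_self_eq_zero.mp (hnd ▸ e) ▸ zero_mem _)
  -- a norm one pair with second entry not zero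
  obtain ⟨u, hu, m, hm, hm0, hum⟩ : ∃ u ∈ F₀, ∃ m ∈ F₀, m ≠ 0 ∧ u * u - n * (m * m) = 1 := by
    obtain ⟨t, htF, ht0, ht⟩ : ∃ t ∈ F₀, t ≠ 0 ∧ 1 - n * (t * t) ≠ 0 := by
      refine ⟨1, one_mem _, one_ne_zero, fun e => hθ ?_⟩
      have hn1 : θ * θ = 1 := by rw [← hnd]; linear_combination -e
      rcases mul_self_eq_one_iff.mp hn1 with h | h <;> rw [h]
      exacts [one_mem _, neg_mem (one_mem _)]
    have h2F : (2 : F) ∈ F₀ := by rw [← one_add_one_eq_two]; exact add_mem (one_mem _) (one_mem _)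
    obtain ⟨D, hD⟩ : ∃ D, D = 1 - n * (t * t) := ⟨_, rfl⟩
    have hDF : D ∈ F₀ := hD ▸ sub_mem (one_mem _) (mul_mem hn (mul_mem htF htF))
    rw [← hD] at ht
    refine ⟨(1 + n * (t * t)) / D, div_mem (add_mem (one_mem _) (mul_mem hn (mul_mem htF htF))) hDF, 2 * t / D,
      div_mem (mul_mem h2F htF) hDF, div_ne_zero (mul_ne_zero h2 ht0) ht, ?_⟩
    field_simp
    rw [hD]
    ring
  obtain ⟨c, hc⟩ : ∃ c, c = m / κ := ⟨_, rfl⟩
  have hcr : c ∈ F₀ := hc ▸ div_mem hm hκr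
  have hc0 : c ≠ 0 := hc ▸ div_ne_zero hm0 hκ0
  obtain ⟨p, hp⟩ : ∃ p, p = (u - 1) / m := ⟨_, rfl⟩
  have hpr : p ∈ F₀ := hp ▸ div_mem (sub_mem hu (one_mem _)) hm
  -- auxiliary vectors
  have hind' : ∀ k : F, k • b ≠ a := fun k hk => by
    by_cases hk0 : k = 0
    · exact ha0 (by rw [← hk, hk0, zero_smul])
    · exact hind k⁻¹ (by rw [← hk, smul_smul, inv_mul_cancel₀ hk0, one_smul])
  obtain ⟨za, hzar, hza1, hza2⟩ := exists_sep S hb ha ha0 hind'
  obtain ⟨zb, hzbr, hzb1, hzb2⟩ := exists_sep S ha hb hb0 hind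
  obtain ⟨d, hd0, hdr, hda, hdb⟩ : ∃ d : ι → F, d ≠ 0 ∧ (∀ i, d i ∈ F₀) ∧ f d a = 0 ∧ f d b = 0 := by
    let φ : (ι → F₀) →ₗ[F₀] F₀ × F₀ :=
      { toFun := fun x => (⟨f (fun i => (x i : F)) a, S.rat _ _ (fun i => (x i).2) ha⟩,
          ⟨f (fun i => (x i : F)) b, S.rat _ _ (fun i => (x i).2) hb⟩)
        map_add' := fun x y => Prod.ext (Subtype.ext (hadd (fun i => (x i : F)) (fun i => (y i : F)) _))
          (Subtype.ext (hadd (fun i => (x i : F)) (fun i => (y i : F)) _))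
        map_smul' := fun c x => Prod.ext (Subtype.ext (hsl (c : F) (fun i => (x i : F)) _))
          (Subtype.ext (hsl (c : F) (fun i => (x i : F)) _)) }
    obtain ⟨x, hx, hx0⟩ : ∃ x, x ∈ LinearMap.ker φ ∧ x ≠ 0 := by
      refine Submodule.exists_mem_ne_zero_of_ne_bot fun e => ?_
      have h1 := φ.finrank_range_add_finrank_ker
      have h3 := Submodule.finrank_le (LinearMap.range φ)
      rw [e, finrank_bot, add_zero, Module.finrank_fintype_fun_eq_card] at h1
      rw [Module.finrank_prod, Module.finrank_self] at h3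
      omega
    exact ⟨fun i => (x i : F), fun e => hx0 (funext fun i => Subtype.ext (congrFun e i)), fun i => (x i).2,
      congrArg Subtype.val (congrArg Prod.fst (LinearMap.mem_ker.mp hx)),
      congrArg Subtype.val (congrArg Prod.snd (LinearMap.mem_ker.mp hx))⟩
  obtain ⟨e₁, he₁r, he₁d, -⟩ := exists_sep S (u := 0) (fun _ => zero_mem _) hdr hd0
    (fun k e => hd0 (by rw [← e, smul_zero]))
  have had' : f a d = 0 := by rw [S.symp.skew, hda, neg_zero]
  have hbd' : f b d = 0 := by rw [S.symp.skew, hdb, neg_zero]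
  obtain ⟨e', he'⟩ : ∃ e', e' = e₁ + (-(f e₁ b / κ)) • a + (f e₁ a / κ) • b := ⟨_, rfl⟩
  have he'a : f e' a = 0 := by
    rw [he', hadd, hadd, hsl, hsl, S.symp.alternating, hba]; field_simp; ring
  have he'b : f e' b = 0 := by
    rw [he', hadd, hadd, hsl, hsl, S.symp.alternating, ← hκ]; field_simp; ring
  have he'd : f e' d = 1 := by
    rw [he', hadd, hadd, hsl, hsl, had', hbd', he₁d]; ring
  have hae' : f a e' = 0 := by rw [S.symp.skew, he'a, neg_zero]
  have hbe' : f b e' = 0 := by rw [S.symp.skew, he'b, neg_zero]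
  obtain ⟨y, hyr, hya, hyb, hye⟩ : ∃ y : ι → F, (∀ i, y i ∈ F₀) ∧ f y a = p ∧ f y b = 1 ∧ f y e' ≠ 0 := by
    obtain ⟨y₀, hy₀⟩ : ∃ y₀, y₀ = p • za + zb := ⟨_, rfl⟩
    have h1 : ∀ i, y₀ i ∈ F₀ := fun i => by
      rw [hy₀, Pi.add_apply, Pi.smul_apply, smul_eq_mul]; exact add_mem (mul_mem hpr (hzar i)) (hzbr i)
    have h3 : f y₀ a = p := by rw [hy₀, hadd, hsl, hza1, hzb2]; ring
    have h4 : f y₀ b = 1 := by rw [hy₀, hadd, hsl, hza2, hzb1]; ring
    by_cases h5 : f y₀ e' = 0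
    · refine ⟨y₀ + d, fun i => add_mem (h1 i) (hdr i), by rw [hadd, h3, hda, add_zero],
        by rw [hadd, h4, hdb, add_zero], ?_⟩
      rw [hadd, h5, zero_add, S.symp.skew, he'd]
      exact neg_ne_zero.mpr one_ne_zero
    · exact ⟨y₀, h1, h3, h4, h5⟩
  obtain ⟨t, ht, htx⟩ := hw c hcr
  obtain ⟨a', ha'⟩ : ∃ a', a' = y + c • (p • a + n • b) := ⟨_, rfl⟩
  obtain ⟨b', hb'⟩ : ∃ b', b' = c • (p • b + a) := ⟨_, rfl⟩
  have hz : In K (tq f (a' + θ • b') 1) := by
    have := In.conj_tq S (S.base y 1 hyr (one_mem _)) ht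
    rwa [htx, tq, show y + (c * f y w) • w = a' + θ • b' by
      rw [ha', hb', hwab, haddr, hsr, hya, hyb, hnd]; module] at this
  have hab' : f a' b' = 0 := by
    rw [ha', hb']
    simp only [hadd, haddr, hsl, hsr, S.symp.alternating, hya, hyb, ← hκ, hba]
    rw [hc, hp]
    field_simp
    linear_combination κ * hum
  have hkey : f a' e' ≠ 0 := by
    rw [ha']
    simp only [hadd, hsl, hae', hbe', mul_zero, add_zero]
    exact hye
  have hb'e : f b' e' = 0 := by rw [hb']; simp only [hadd, hsl, hae', hbe']; ring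
  refine center_of_split S h2 hθ (hnd ▸ hn) (a := a') (b := b') (fun i => ?_) (fun i => ?_) hab'
    (fun h => hkey (by rw [h, f_zero_left S])) (fun k hk => ?_) (fun h => ?_) hz
  · rw [ha']
    simp only [Pi.add_apply, Pi.smul_apply, smul_eq_mul]
    exact add_mem (hyr i) (mul_mem hcr (add_mem (mul_mem hpr (ha i)) (mul_mem hn (hb i))))
  · rw [hb']
    simp only [Pi.add_apply, Pi.smul_apply, smul_eq_mul]
    exact mul_mem hcr (add_mem (mul_mem hpr (hb i)) (ha i))
  · have hb'0 : b' ≠ 0 := fun h => by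
      have := congrArg (fun z => f z b) h
      simp only [hb', hsl, hadd, S.symp.alternating, ← hκ, f_zero_left S, mul_zero, zero_add] at this
      exact mul_ne_zero hc0 hκ0 this
    have h1 := congrArg (fun z => f z e') hk
    simp only [hsl, hb'e] at h1
    exact hb'0 (by rw [← hk, (mul_eq_zero.mp h1).resolve_right hkey, zero_smul])
  · have := congrArg (fun z => f z b) h
    simp only [hb', hsl, hadd, S.symp.alternating, ← hκ, f_zero_left S, mul_zero, zero_add] at this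
    exact mul_ne_zero hc0 hκ0 this

end Cfsg.Agent.Classical.SpFourOdd

namespace Cfsg.Agent.Classical.SpFourOdd

open Matrix Cfsg.Geo

theorem subfield_isMaximal {F : Type*} [Field F] [Fintype F] {F₀ : Subfield F} (h2 : (2 : F) ≠ 0) {r : ℕ}
    (hr : r.Prime) (hcard : Fintype.card F = Nat.card F₀ ^ r) (P : GL (Fin 2 ⊕ Fin 2) F) {ζ : F} (hζ : ζ ≠ 0)
    (hP : IsFormRationalStructure (sympForm 2 F) F₀ ζ P) :
    IsMaximalIn (spGL 2 F) (subfieldSubgroup F₀ P ⊓ spGL 2 F) :=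
  SpSubMax.isMaximal_of le_rfl hr hcard P hζ hP fun _ _ _ S hg hgn =>
    exists_center S h2 (by rw [Fintype.card_sum, Fintype.card_fin]) hr hcard hg hgn

end Cfsg.Agent.Classical.SpFourOdd
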